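import Cfsg.Agent.Lib.FixedSpace.ShultDep.Basic
import Cfsg.Agent.Lib.FTDep.SylowCentralAut
import Cfsg.Agent.Lib.OddLocal.Final.OddOrder
import Cfsg.Agent.Lib.Core.FPFAutomorphism
import Cfsg.Agent.Lib.Core.Cores
import Cfsg.Agent.Lib.PLocal.NormalPComplementThms
import Cfsg.Agent.Lib.GW.KFactsProof.Shape

/-!
Owner: helper14. The coprime centralising lemma: if `R` of prime order and a perfect `L = [L,R]` act on `D`,
`r` prime to both orders and `C_D(R) ≤ C_D(L)`, then `[D,L] = 1`.
-/

set_option autoImplicit false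
set_option linter.all false

namespace CfsgLib.ShultDep

open Subgroup
open scoped commutatorElement Pointwise

universe u

variable {X : Type u} [Group X]

theorem card_lt_of_le_of_ne [Finite X] {H K : Subgroup X} (h : H ≤ K) (hne : H ≠ K) :
    Nat.card H < Nat.card K :=
  lt_of_not_ge fun hc => hne (eq_of_le_of_card_ge h hc)

theorem le_normalizer_sup {A B C : Subgroup X} (hB : A ≤ normalizer (B : Set X))
    (hC : A ≤ normalizer (C : Set X)) : A ≤ normalizer ((B ⊔ C : Subgroup X) : Set X) := by
  intro g hg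
  have h1 := CfsgLib.Core.mem_normalizer_iff_conj_smul_eq.1 (hB hg)
  have h2 := CfsgLib.Core.mem_normalizer_iff_conj_smul_eq.1 (hC hg)
  rw [CfsgLib.Core.mem_normalizer_iff_conj_smul_eq, Subgroup.smul_sup, h1, h2]

theorem le_normalizer_map_characteristic {A D : Subgroup X} (hA : A ≤ normalizer (D : Set X))
    (K : Subgroup D) [hK : K.Characteristic] : A ≤ normalizer (K.map D.subtype : Set X) := by
  have key : ∀ g ∈ A, ∀ k ∈ K.map D.subtype, g * k * g⁻¹ ∈ K.map D.subtype := by
    rintro g hg _ ⟨k, hk, rfl⟩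
    refine ⟨D.normalizerMonoidHom ⟨g, hA hg⟩ k, ?_, rfl⟩
    exact (characteristic_iff_map_le.1 hK (D.normalizerMonoidHom ⟨g, hA hg⟩)) ⟨k, hk, rfl⟩
  intro g hg
  rw [mem_normalizer_iff]
  refine fun x => ⟨key g hg x, fun hx => ?_⟩
  have := key g⁻¹ (inv_mem hg) _ hx
  rwa [show g⁻¹ * (g * x * g⁻¹) * g⁻¹⁻¹ = x by group] at this

theorem commutator_normalizes {A B C : Subgroup X} (hB : A ≤ normalizer (B : Set X))
    (hC : A ≤ normalizer (C : Set X)) : A ≤ normalizer ((⁅B, C⁆ : Subgroup X) : Set X) := by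
  intro g hg
  have h1 := CfsgLib.Core.mem_normalizer_iff_conj_smul_eq.1 (hB hg)
  have h2 := CfsgLib.Core.mem_normalizer_iff_conj_smul_eq.1 (hC hg)
  rw [CfsgLib.Core.mem_normalizer_iff_conj_smul_eq]
  exact (map_commutator _ _ _).trans (congrArg₂ (fun Y Z : Subgroup X => ⁅Y, Z⁆) h1 h2)

/-- A perfect group of automorphisms fixing a Sylow 2-subgroup pointwise is trivial, when the core is. -/
theorem centralizes_of_fixes_sylow [Finite X] {D L : Subgroup X} (hLD : L ≤ normalizer (D : Set X))
    (hperf : ⁅L, L⁆ = L) (hO : ∀ N : Subgroup D, N.Normal → Odd (Nat.card N) → N = ⊥) (S : Sylow 2 D)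
    (hfix : L ≤ centralizer ((S : Subgroup D).map D.subtype : Set X)) : ⁅D, L⁆ = ⊥ := by
  classical
  let f : L →* MulAut D := D.normalizerMonoidHom.comp (inclusion hLD)
  let C : Subgroup (MulAut D) :=
    { carrier := {φ | ∀ s : D, s ∈ S → φ s = s}
      one_mem' := fun _ _ => rfl
      mul_mem' := fun {a b} ha hb s hs => by rw [MulAut.mul_apply, hb s hs, ha s hs]
      inv_mem' := fun {a} ha s hs => by
        conv_lhs => rw [← ha s hs]
        exact a.symm_apply_apply s }
  obtain ⟨-, hsol⟩ := CfsgLib.FTDep.fixes_sylow_solvable CfsgLib.OddLocal.FTFinal.odd_solvable_all hO S C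
    fun φ => Iff.rfl
  haveI := hsol
  have hle : f.range ≤ C := by
    rintro _ ⟨l, rfl⟩ s hs
    refine Subtype.ext ?_
    show (l : X) * (s : X) * (l : X)⁻¹ = (s : X)
    rw [← mem_centralizer_iff.1 (hfix l.2) (s : X) (mem_map_of_mem D.subtype hs)]
    group
  haveI : Group.IsSolvable f.range := Group.isSolvable_of_isSolvable_injective (f := inclusion hle) (inclusion_injective hle)
  have hfr : f.range = ⊥ := by
    refine eq_bot_of_perfect_solvable ?_
    haveI : Group.IsPerfect L := Subgroup.isPerfect_iff.2 hperf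
    rw [MonoidHom.range_eq_map, ← map_commutator, ← _root_.commutator_def, Group.IsPerfect.commutator_eq_top]
  rw [commutator_eq_bot_iff_le_centralizer]
  intro d hd
  rw [mem_centralizer_iff]
  intro l hl
  have h1 : f ⟨l, hl⟩ = 1 := by
    have : f ⟨l, hl⟩ ∈ f.range := ⟨_, rfl⟩
    rwa [hfr, mem_bot] at this
  have h2 := congrArg (fun φ : MulAut D => ((φ ⟨d, hd⟩ : D) : X)) h1
  change l * d * l⁻¹ = d at h2
  calc l * d = l * d * l⁻¹ * l := by group
    _ = d * l := by rw [h2]

theorem Setup.quotient [Finite X] {D L R : Subgroup X} {r : ℕ} (h : Setup D L R r) {N : Subgroup X}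
    (hND : N ≤ D) (hDN : D ≤ normalizer (N : Set X)) (hLN : L ≤ normalizer (N : Set X))
    (hRN : R ≤ normalizer (N : Set X)) :
    let π := QuotientGroup.mk' (N.subgroupOf (normalizer (N : Set X)))
    Setup ((D.subgroupOf (normalizer (N : Set X))).map π) ((L.subgroupOf (normalizer (N : Set X))).map π)
      ((R.subgroupOf (normalizer (N : Set X))).map π) r := by
  intro π
  set M := normalizer (N : Set X) with hM
  haveI := h.solvR
  have hcomm : ∀ {A B : Subgroup X}, A ≤ M → B ≤ M → ⁅A, B⁆ ≤ M →
      ⁅(A.subgroupOf M).map π, (B.subgroupOf M).map π⁆ = ((⁅A, B⁆ : Subgroup X).subgroupOf M).map π := by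
    intro A B hA hB hAB
    rw [← map_commutator]
    congr 1
    apply map_injective M.subtype_injective
    rw [map_commutator, map_subgroupOf_eq_of_le hA, map_subgroupOf_eq_of_le hB, map_subgroupOf_eq_of_le hAB]
  have hnorm : ∀ {A B : Subgroup X}, A ≤ M → A ≤ normalizer (B : Set X) →
      (A.subgroupOf M).map π ≤ normalizer (((B.subgroupOf M).map π : Subgroup _) : Set _) := by
    intro A B hA hAB
    refine le_trans (map_mono ?_) (le_normalizer_map π)
    intro a ha
    rw [mem_normalizer_iff]
    intro x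
    exact mem_normalizer_iff.1 (hAB ha) (x : X)
  have hdvd : ∀ {A : Subgroup X}, A ≤ M → Nat.card ((A.subgroupOf M).map π) ∣ Nat.card A := by
    intro A hA
    rw [← Nat.card_congr (subgroupOfEquivOfLe hA).toEquiv]
    exact Subgroup.card_map_dvd _ _
  constructor
  · exact h.prime
  · refine ((Nat.dvd_prime h.prime).1 (h.card ▸ hdvd hRN)).resolve_left fun e => ?_
    have he := Subgroup.eq_bot_of_card_eq _ e
    rw [Subgroup.map_eq_bot_iff, QuotientGroup.ker_mk'] at he
    have hle : R ≤ N := fun x hx => he (show (⟨x, hRN hx⟩ : M) ∈ R.subgroupOf M from hx)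
    exact h.copD ((h.card ▸ card_dvd_of_le hle).trans (card_dvd_of_le hND))
  · exact hnorm hLN h.LD
  · exact hnorm hRN h.RD
  · exact hnorm hRN h.RL
  · rw [hcomm hLN hLN (h.perf.le.trans hLN), h.perf]
  · rw [hcomm hLN hRN (h.move.le.trans hLN), h.move]
  · exact fun hd => h.copD (hd.trans (hdvd hDN))
  · exact fun hd => h.copL (hd.trans (hdvd hLN))
  · rintro _ ⟨⟨d, hd, rfl⟩, hc⟩
    obtain ⟨n, hn, hdn⟩ := CfsgLib.Core.exists_centralizing_in_coset (A := R) (N := N) hRN
      (h.coprime.coprime_dvd_right (card_dvd_of_le hND)) (Or.inl inferInstance) (k := (d : X)) (by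
        intro a ha
        have h1 : π (d⁻¹ * (⟨a, hRN ha⟩ * d * ⟨a, hRN ha⟩⁻¹)) = 1 := by
          have h2 : π ⟨a, hRN ha⟩ * π d = π d * π ⟨a, hRN ha⟩ := mem_centralizer_iff.1 hc _
            (mem_map_of_mem π (show (⟨a, hRN ha⟩ : M) ∈ R.subgroupOf M from ha))
          rw [map_mul, map_mul, map_mul, map_inv, map_inv, h2, mul_inv_cancel_right, inv_mul_cancel]
        exact (QuotientGroup.eq_one_iff (N := N.subgroupOf M) _).1 h1)
    have hcL : (d : X) * n ∈ centralizer (L : Set X) := h.fix ⟨mul_mem hd (hND hn), hdn⟩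
    refine mem_centralizer_iff.2 ?_
    rintro _ ⟨l, hl, rfl⟩
    have hn1 : π ⟨n, le_normalizer hn⟩ = 1 := (QuotientGroup.eq_one_iff _).2 hn
    have h2 : l * (d * ⟨n, le_normalizer hn⟩) = (d * ⟨n, le_normalizer hn⟩) * l :=
      Subtype.ext (mem_centralizer_iff.1 hcL (l : X) hl)
    have h3 := congrArg π h2
    simp only [map_mul, hn1, mul_one] at h3
    exact h3

/-- A normal invariant subgroup centralised by `L`, modulo which `L` acts trivially. -/
theorem three_step {D L N : Subgroup X} (hperf : ⁅L, L⁆ = L) (h1 : ⁅D, L⁆ ≤ N) (h2 : ⁅N, L⁆ = ⊥) :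
    ⁅D, L⁆ = ⊥ := by
  have ha : ⁅⁅L, D⁆, L⁆ = ⊥ := le_bot_iff.1 (h2 ▸ commutator_mono ((commutator_comm L D).le.trans h1) le_rfl)
  have hb : ⁅⁅D, L⁆, L⁆ = ⊥ := le_bot_iff.1 (h2 ▸ commutator_mono h1 le_rfl)
  have := commutator_commutator_eq_bot_of_rotate ha hb
  rwa [hperf, commutator_comm] at this

/-- The case of no invariant normal subgroup. -/
theorem simple_step [Finite X] (hS : Shult.{u}) {D L R : Subgroup X} {r : ℕ} (h : Setup D L R r)
    (IH : ∀ D' L' R' : Subgroup X, Nat.card D' < Nat.card D → Setup D' L' R' r → ⁅D', L'⁆ = ⊥)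
    (hsimple : ∀ N : Subgroup X, N ≤ D → D ≤ normalizer (N : Set X) → L ≤ normalizer (N : Set X) →
      R ≤ normalizer (N : Set X) → N = ⊥ ∨ N = D) : ⁅D, L⁆ = ⊥ := by
  classical
  haveI : Fact (Nat.Prime 2) := ⟨Nat.prime_two⟩
  haveI := h.solvR
  rw [commutator_eq_bot_iff_le_centralizer]
  by_contra hgoal
  set J := D ⊓ centralizer (L : Set X) with hJ
  -- proper invariant subgroups are centralised
  have hsub : ∀ N : Subgroup X, N ≤ D → N ≠ D → L ≤ normalizer (N : Set X) → R ≤ normalizer (N : Set X) →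
      N ≤ J := fun N hN hne hL hR => le_inf hN (commutator_eq_bot_iff_le_centralizer.1
        (IH N L R (card_lt_of_le_of_ne hN hne) (h.mono hN hL hR)))
  have hchar : ∀ K : Subgroup D, K.Characteristic → K = ⊥ ∨ K = ⊤ := by
    intro K hK
    haveI := hK
    rcases hsimple (K.map D.subtype) (map_subtype_le K) (le_normalizer_map_characteristic le_normalizer K)
      (le_normalizer_map_characteristic h.LD K) (le_normalizer_map_characteristic h.RD K) with e | e
    · exact Or.inl ((Subgroup.map_eq_bot_iff_of_injective _ D.subtype_injective).1 e)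
    · exact Or.inr (map_injective D.subtype_injective (by rw [e, ← MonoidHom.range_eq_map, range_subtype]))
  -- `D` is not abelian
  have hnc : ¬ ∀ x ∈ D, ∀ y ∈ D, x * y = y * x := fun hab =>
    hgoal (commutator_eq_bot_iff_le_centralizer.1 (abelian_step hS h hab fun N hN hL hR =>
      hsimple N hN (fun g hg => mem_normalizer_iff.2 fun x => by
        constructor
        · intro hx; rwa [hab g hg x (hN hx), mul_inv_cancel_right]
        · intro hx
          have hx' : x ∈ D := by
            have := mul_mem (mul_mem (inv_mem hg) (hN hx)) hg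
            rwa [show g⁻¹ * (g * x * g⁻¹) * g = x by group] at this
          rwa [hab g hg x hx', mul_inv_cancel_right] at hx) hL hR))
  have hcenter : center D = ⊥ := (hchar _ inferInstance).resolve_right fun e => hnc fun x hx y hy => by
    have hy' : (⟨y, hy⟩ : D) ∈ center D := by rw [e]; exact mem_top _
    exact congrArg (fun z : D => (z : X)) (mem_center_iff.1 hy' ⟨x, hx⟩)
  have hnsol : ¬ Group.IsSolvable D := fun hs => by
    haveI := hs
    rcases hchar (commutator D) inferInstance with e | e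
    · refine hnc fun x hx y hy => ?_
      have hy' : (⟨y, hy⟩ : D) ∈ center D := by rw [(commutator_eq_bot_iff_center_eq_top D).1 e]; exact mem_top _
      exact congrArg (fun z : D => (z : X)) (mem_center_iff.1 hy' ⟨x, hx⟩)
    · haveI : Group.IsPerfect D := Group.isPerfect_def.2 e
      have hperfD : ⁅D, D⁆ = D := Subgroup.isPerfect_iff.1 inferInstance
      have := eq_bot_of_perfect_solvable hperfD
      exact hnc fun x hx y hy => by
        rw [this, mem_bot] at hx hy
        rw [hx, hy]
  have hO : ∀ N : Subgroup D, N.Normal → Odd (Nat.card N) → N = ⊥ := by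
    intro N hN hodd
    haveI := hN
    have hle := CfsgLib.Core.le_pPrimeCore (p := 2) (N := N) (Nat.coprime_two_right.2 hodd)
    rcases hchar (Cfsg.pPrimeCore 2 D) inferInstance with e | e
    · exact le_bot_iff.1 (e ▸ hle)
    · exfalso
      refine hnsol (CfsgLib.OddLocal.FTFinal.odd_solvable_all D ?_)
      have := CfsgLib.Core.coprime_card_pPrimeCore 2 D
      rw [e, Subgroup.card_top] at this
      exact Nat.coprime_two_right.1 this
  -- the fixed points are non-trivial
  have hfixne : D ⊓ centralizer (R : Set X) ≠ ⊥ := by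
    intro e
    haveI : Fact r.Prime := ⟨h.prime⟩
    obtain ⟨⟨ρ, hρR⟩, hρ⟩ := (isCyclic_of_prime_card h.card).exists_generator
    let φ : MulAut D := D.normalizerMonoidHom ⟨ρ, h.RD hρR⟩
    refine hnsol ?_
    haveI := CfsgLib.Core.FPFAut.isNilpotent_of_fpf
      (fun K _ _ q _ hq P hP => CfsgLib.PLocal.hasNormalPComplement_glauberman hq P hP) φ (fun y hy => ?_)
      h.prime (?_ : φ ^ r = 1)
    · infer_instance
    · have h1 : ρ * (y : X) * ρ⁻¹ = (y : X) := congrArg Subtype.val hy
      have hmem : (y : X) ∈ D ⊓ centralizer (R : Set X) := by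
        refine ⟨y.2, mem_centralizer_iff.2 fun a ha => ?_⟩
        obtain ⟨n, hn⟩ := mem_zpowers_iff.1 (hρ ⟨a, ha⟩)
        have hc : Commute ρ (y : X) := mul_inv_eq_iff_eq_mul.1 h1
        have := (hc.zpow_left n).eq
        rwa [show ρ ^ n = a from congrArg Subtype.val hn] at this
      rw [e, mem_bot] at hmem
      exact Subtype.ext hmem
    · rw [← map_pow]
      have : (⟨ρ, h.RD hρR⟩ : normalizer (D : Set X)) ^ r = 1 := Subtype.ext (by
        have : (⟨ρ, hρR⟩ : R) ^ r = 1 := h.card ▸ pow_card_eq_one'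
        exact congrArg (fun z : R => (z : X)) this)
      rw [this, map_one]
  have hRJ : R ≤ normalizer (J : Set X) := le_normalizer_inf h.RD (h.RL.trans le_normalizer_centralizer)
  have hcopR : ∀ {K : Subgroup X}, K ≤ D → (Nat.card R).Coprime (Nat.card K) := fun hK =>
    h.coprime.coprime_dvd_right (card_dvd_of_le hK)
  by_cases hJeven : 2 ∣ Nat.card J
  · -- the centraliser of `L` holds a Sylow 2-subgroup
    obtain ⟨P, hP⟩ := CfsgLib.Core.exists_invariant_sylow hRJ (hcopR inf_le_left) (Or.inl inferInstance) 2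
    set Q := (P : Subgroup J).map J.subtype with hQ
    have hQJ : Q ≤ J := map_subtype_le _
    have hQ2 : IsPGroup 2 Q := P.2.map _
    have hQL : L ≤ centralizer (Q : Set X) := le_centralizer_iff.1 (hQJ.trans inf_le_right)
    have hQne : Q ≠ ⊥ := fun e => P.ne_bot_of_dvd_card hJeven
      ((Subgroup.map_eq_bot_iff_of_injective _ J.subtype_injective).1 e)
    have hQD : Q ≠ D := fun e => hnsol (by
      rw [← e]
      haveI := hQ2.isNilpotent
      infer_instance)
    have hN0 : D ⊓ normalizer (Q : Set X) ≠ D := fun e => by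
      have hDQ : D ≤ normalizer (Q : Set X) := e ▸ inf_le_right
      rcases hsimple Q (hQJ.trans inf_le_left) hDQ
        (hQL.trans (centralizer_le_normalizer _)) hP with e' | e'
      · exact hQne e'
      · exact hQD e'
    have hN0J : D ⊓ normalizer (Q : Set X) ≤ J := hsub _ inf_le_left hN0
      (le_normalizer_inf h.LD ((hQL.trans (centralizer_le_normalizer _)).trans le_normalizer))
      (le_normalizer_inf h.RD (hP.trans le_normalizer))
    have hQD' : Q.subgroupOf D ≤ (⊤ : Subgroup D) := le_top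
    obtain ⟨S, hS2⟩ := (hQ2.comap_of_injective D.subtype D.subtype_injective).exists_le_sylow
      (P := Q.subgroupOf D)
    have hSQ : (S : Subgroup D) ≤ Q.subgroupOf D := by
      by_contra hne
      have hlt : (Q.subgroupOf D).subgroupOf (S : Subgroup D) < ⊤ := by
        refine lt_top_iff_ne_top.2 fun e => hne ?_
        rwa [subgroupOf_eq_top] at e
      haveI := S.2.isNilpotent
      obtain ⟨x, hxn, hx⟩ := SetLike.exists_of_lt (Group.normalizerCondition_of_isNilpotent _ hlt)
      have hxN : ((x : D) : X) ∈ normalizer (Q : Set X) := by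
        have hsub' : ∀ z : (S : Subgroup D), z ∈ normalizer (((Q.subgroupOf D).subgroupOf (S : Subgroup D)) : Set _) →
            ∀ y ∈ Q, ((z : D) : X) * y * ((z : D) : X)⁻¹ ∈ Q := fun z hz y hy =>
          (mem_normalizer_iff.1 hz ⟨⟨y, (hQJ hy).1⟩, hS2 hy⟩).1 hy
        rw [mem_normalizer_iff]
        refine fun y => ⟨hsub' x hxn y, fun hy => ?_⟩
        have := hsub' x⁻¹ (inv_mem hxn) _ hy
        push_cast at this
        simpa [mul_assoc] using this
      have hxJ : ((x : D) : X) ∈ J := hN0J ⟨(x : D).2, hxN⟩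
      set T : Subgroup J := ((S : Subgroup D).map D.subtype ⊓ normalizer (Q : Set X)).subgroupOf J with hT
      have hPT : (P : Subgroup J) ≤ T := fun y hy => by
        have hyQ : (y : X) ∈ Q := mem_map_of_mem _ hy
        exact ⟨⟨⟨y, y.2.1⟩, hS2 (show (⟨y, y.2.1⟩ : D) ∈ Q.subgroupOf D from hyQ), rfl⟩, le_normalizer hyQ⟩
      have hT2 : IsPGroup 2 T := ((S.2.map D.subtype).to_le inf_le_left).comap_of_injective J.subtype
        J.subtype_injective
      have := P.3 hT2 hPT
      have hxT : (⟨_, hxJ⟩ : J) ∈ T := ⟨mem_map_of_mem _ x.2, hxN⟩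
      rw [this] at hxT
      exact hx (show ((x : D) : X) ∈ Q from ⟨_, hxT, rfl⟩)
    have hSQ' : (S : Subgroup D).map D.subtype ≤ Q := (map_mono hSQ).trans (map_comap_le _ _)
    exact hgoal (commutator_eq_bot_iff_le_centralizer.1 (centralizes_of_fixes_sylow h.LD h.perf hO S
      (hQL.trans (centralizer_le hSQ'))))
  -- the odd case
  obtain ⟨S, hSR⟩ := CfsgLib.Core.exists_invariant_sylow h.RD h.coprime (Or.inl inferInstance) 2
  set S' := (S : Subgroup D).map D.subtype with hS'
  have hS'2 : IsPGroup 2 S' := S.2.map _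
  have hS'D : S' ≤ D := map_subtype_le _
  have hfix0 : S' ⊓ centralizer (R : Set X) = ⊥ := by
    have hle : S' ⊓ centralizer (R : Set X) ≤ J := le_inf (inf_le_left.trans hS'D)
      ((inf_le_inf_right _ hS'D).trans h.fix)
    obtain ⟨k, hk⟩ := IsPGroup.iff_card.1 (hS'2.to_le (inf_le_left (b := centralizer (R : Set X))))
    refine Subgroup.eq_bot_of_card_eq _ ?_
    rcases Nat.eq_zero_or_pos k with h0 | h0
    · rw [hk, h0, pow_zero]
    · exact absurd ((hk ▸ dvd_pow_self 2 h0.ne').trans (card_dvd_of_le hle)) hJeven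
  have hS'lt : Nat.card S' < Nat.card D := card_lt_of_le_of_ne hS'D fun e => hnsol (by
    rw [← e]
    haveI := hS'2.isNilpotent
    infer_instance)
  set M := (D ⊔ L) ⊓ normalizer (S' : Set X) with hM
  have hfrattini : L ≤ M ⊔ D := by
    intro l hl
    have hl' : MulAut.conj l • S' ≤ D := by
      rintro _ ⟨x, hx, rfl⟩
      exact (mem_normalizer_iff.1 (h.LD hl) x).1 (hS'D hx)
    obtain ⟨d, hd, he⟩ := CfsgLib.Core.exists_conj_of_card_eq S hl'
      (Nat.card_congr (Subgroup.equivSMul (MulAut.conj l) S').toEquiv).symm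
    have hmem : d⁻¹ * l ∈ M := by
      refine mem_inf.2 ⟨mul_mem (inv_mem (mem_sup_left hd)) (mem_sup_right hl), ?_⟩
      rw [CfsgLib.Core.mem_normalizer_iff_conj_smul_eq, map_mul, mul_smul, ← he, ← mul_smul, ← map_mul,
        inv_mul_cancel, map_one, one_smul]
    rw [show l = d * (d⁻¹ * l) by group]
    exact mul_mem (mem_sup_right hd) (mem_sup_left hmem)
  obtain ⟨k, hk⟩ := CfsgLib.GW.KFactsProof.exists_derivedSeries_stable M
  set P := (derivedSeries M k).map M.subtype with hP
  have hPperf : ⁅P, P⁆ = P := by rw [hP, ← map_commutator, hk]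
  have hRM : R ≤ normalizer (M : Set X) :=
    le_normalizer_inf (le_normalizer_sup h.RD h.RL) (hSR.trans le_normalizer)
  have hRP : R ≤ normalizer (P : Set X) := le_normalizer_map_characteristic hRM _
  have hPM : P ≤ M := map_subtype_le _
  have hPD : P ≤ normalizer (D : Set X) := hPM.trans (inf_le_left.trans (sup_le le_normalizer h.LD))
  -- `L` lies in `D P`
  have hder : ∀ n : ℕ, L ≤ (derivedSeries M n).map M.subtype ⊔ D := by
    intro n
    induction n with
    | zero =>
      rw [derivedSeries_zero, ← MonoidHom.range_eq_map, range_subtype]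
      exact hfrattini
    | succ n ih =>
      have hAN : (derivedSeries M n).map M.subtype ≤ normalizer (D : Set X) :=
        (map_subtype_le _).trans (inf_le_left.trans (sup_le le_normalizer h.LD))
      have hnorm : (derivedSeries M n).map M.subtype ⊔ D ≤
          normalizer (((derivedSeries M (n + 1)).map M.subtype ⊔ D : Subgroup X) : Set X) := by
        refine sup_le ?_ (le_sup_right.trans le_normalizer)
        refine le_normalizer_sup ?_ hAN
        rw [derivedSeries_succ, map_commutator]
        exact commutator_normalizes le_normalizer le_normalizer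
      calc L = ⁅L, L⁆ := h.perf.symm
        _ ≤ ⁅(derivedSeries M n).map M.subtype ⊔ D, (derivedSeries M n).map M.subtype ⊔ D⁆ :=
          commutator_mono ih ih
        _ ≤ (derivedSeries M (n + 1)).map M.subtype ⊔ D := by
          rw [commutator_le]
          intro x hx y hy
          obtain ⟨a, ha, d, hd, rfl⟩ := (CfsgLib.Core.mem_sup_iff_mul hAN).1 hx
          obtain ⟨b, hb, e, he, rfl⟩ := (CfsgLib.Core.mem_sup_iff_mul hAN).1 hy
          have hab : ⁅a, b⁆ ∈ (derivedSeries M (n + 1)).map M.subtype := by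
            rw [derivedSeries_succ, map_commutator]
            exact commutator_mem_commutator ha hb
          let N₁ : Subgroup (normalizer (D : Set X)) := D.subgroupOf (normalizer (D : Set X))
          have hmk : (QuotientGroup.mk' N₁) ⁅(⟨a * d, mul_mem (hAN ha) (le_normalizer hd)⟩ :
              normalizer (D : Set X)), ⟨b * e, mul_mem (hAN hb) (le_normalizer he)⟩⁆ =
              QuotientGroup.mk' N₁ ⁅(⟨a, hAN ha⟩ : normalizer (D : Set X)), ⟨b, hAN hb⟩⁆ := by
            have e1 : (QuotientGroup.mk' N₁) (⟨a * d, mul_mem (hAN ha) (le_normalizer hd)⟩ :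
                normalizer (D : Set X)) = QuotientGroup.mk' N₁ ⟨a, hAN ha⟩ := by
              rw [show (⟨a * d, mul_mem (hAN ha) (le_normalizer hd)⟩ : normalizer (D : Set X)) =
                ⟨a, hAN ha⟩ * ⟨d, le_normalizer hd⟩ from rfl, map_mul,
                show QuotientGroup.mk' N₁ ⟨d, le_normalizer hd⟩ = 1 from (QuotientGroup.eq_one_iff _).2 hd, mul_one]
            have e2 : (QuotientGroup.mk' N₁) (⟨b * e, mul_mem (hAN hb) (le_normalizer he)⟩ :
                normalizer (D : Set X)) = QuotientGroup.mk' N₁ ⟨b, hAN hb⟩ := by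
              rw [show (⟨b * e, mul_mem (hAN hb) (le_normalizer he)⟩ : normalizer (D : Set X)) =
                ⟨b, hAN hb⟩ * ⟨e, le_normalizer he⟩ from rfl, map_mul,
                show QuotientGroup.mk' N₁ ⟨e, le_normalizer he⟩ = 1 from (QuotientGroup.eq_one_iff _).2 he, mul_one]
            rw [map_commutatorElement, map_commutatorElement, e1, e2]
          have hm := (QuotientGroup.eq (s := N₁)).1 hmk.symm
          rw [← mul_inv_cancel_left ⁅a, b⁆ ⁅a * d, b * e⁆]
          exact mul_mem (mem_sup_left hab) (mem_sup_right hm)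
  have hLP : L ≤ P ⊔ D := hder k
  -- `P = [P,R]`
  have hPn : P ≤ normalizer ((⁅P, R⁆ : Subgroup X) : Set X) := normalizer_commutator_ge_left P R
  have hQP : ⁅P, R⁆ ≤ P := le_normalizer_iff_commutator_le_left.1 hRP
  have hRQ : R ≤ normalizer (((⁅P, R⁆ ⊔ D : Subgroup X)) : Set X) :=
    le_normalizer_sup (normalizer_commutator_ge_right P R) h.RD
  have hLQ : L ≤ ⁅P, R⁆ ⊔ D := by
    have hQn : P ≤ normalizer (((⁅P, R⁆ ⊔ D : Subgroup X)) : Set X) :=
      le_normalizer_sup hPn hPD
    calc L = ⁅L, R⁆ := h.move.symm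
      _ ≤ ⁅P ⊔ D, R⁆ := commutator_mono hLP le_rfl
      _ ≤ ⁅P, R⁆ ⊔ D := by
        rw [commutator_le]
        intro x hx y hy
        obtain ⟨a, ha, d, hd, rfl⟩ := (CfsgLib.Core.mem_sup_iff_mul hPD).1 hx
        rw [commutatorElement_mul_left_eq_conj_mul]
        refine mul_mem ?_ (mem_sup_left (commutator_mem_commutator ha hy))
        refine (mem_normalizer_iff.1 (hQn ha) _).1 (mem_sup_right ?_)
        rw [commutatorElement_def, mul_assoc d, mul_assoc d]
        exact mul_mem hd ((mem_normalizer_iff.1 (h.RD hy) d⁻¹).1 (inv_mem hd))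
  have hPQ : ⁅P, R⁆ = P := by
    refine le_antisymm hQP ?_
    set N₂ := (⁅P, R⁆ : Subgroup X).subgroupOf P with hN₂
    haveI : N₂.Normal := normal_subgroupOf_of_le_normalizer hPn
    haveI : Group.IsPerfect P := Subgroup.isPerfect_iff.2 hPperf
    haveI hsolK : Group.IsSolvable (D ⊓ normalizer (S' : Set X) : Subgroup X) := by
      set K := D ⊓ normalizer (S' : Set X) with hK
      haveI : (S'.subgroupOf K).Normal := normal_subgroupOf_of_le_normalizer inf_le_right
      refine (Group.isSolvable_iff_subgroup_quotient (S'.subgroupOf K)).2 ⟨?_, ?_⟩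
      · have h2K : IsPGroup 2 (S'.subgroupOf K) := hS'2.comap_of_injective K.subtype K.subtype_injective
        haveI : Group.IsNilpotent (S'.subgroupOf K) := h2K.isNilpotent
        infer_instance
      · refine CfsgLib.OddLocal.FTFinal.odd_solvable_all _ ?_
        rw [← Nat.not_even_iff_odd, even_iff_two_dvd, ← Subgroup.index_eq_card]
        intro hd
        refine S.not_dvd_index (hd.trans ?_)
        have h1 : ((S'.subgroupOf K)).index = S'.relIndex K := rfl
        rw [h1]
        have h2 : (S : Subgroup D).index = S'.relIndex D := by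
          show _ = (S'.subgroupOf D).index
          rw [hS', subgroupOf, comap_map_eq_self_of_injective D.subtype_injective]
        rw [h2]
        exact Dvd.intro _ (relIndex_mul_relIndex _ _ _
          (le_inf hS'D le_normalizer) inf_le_left)
    set P₀ := (D ⊓ normalizer (S' : Set X)).subgroupOf P with hP₀
    haveI : Group.IsSolvable P₀ := by
      let g : P₀ →* (D ⊓ normalizer (S' : Set X) : Subgroup X) :=
        (P.subtype.comp P₀.subtype).codRestrict _ fun x => x.2
      exact Group.isSolvable_of_isSolvable_injective (f := g) fun a b e => by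
        exact Subtype.ext (Subtype.ext (congrArg (fun z : (D ⊓ normalizer (S' : Set X) : Subgroup X) => (z : X)) e))
    have hsurj : Function.Surjective ((QuotientGroup.mk' N₂).comp P₀.subtype) := by
      intro z
      obtain ⟨p, rfl⟩ := QuotientGroup.mk'_surjective N₂ z
      have hp : (p : X) ∈ ⁅P, R⁆ ⊔ D := by
        have : P ≤ ⁅P, R⁆ ⊔ D := hPM.trans (inf_le_left.trans (sup_le le_sup_right hLQ))
        exact this p.2
      obtain ⟨d, hd, q, hq, he⟩ := (CfsgLib.Core.mem_sup_iff_mul' ((hQP.trans hPD))).1 hp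
      have hdP : d ∈ P := by
        rw [show d = (p : X) * q⁻¹ by rw [he]; group]
        exact mul_mem p.2 (inv_mem (hQP hq))
      refine ⟨⟨⟨d, hdP⟩, hd, (hPM hdP).2⟩, ?_⟩
      apply QuotientGroup.eq.2
      show d⁻¹ * (p : X) ∈ ⁅P, R⁆
      rw [he, inv_mul_cancel_left]
      exact hq
    haveI : Group.IsSolvable (P ⧸ N₂) := Group.isSolvable_of_surjective hsurj
    have htop : (⊤ : Subgroup (P ⧸ N₂)) = ⊥ := by
      haveI : Group.IsSolvable (⊤ : Subgroup (P ⧸ N₂)) := inferInstance
      refine eq_bot_of_perfect_solvable ?_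
      rw [← map_top_of_surjective _ (QuotientGroup.mk'_surjective N₂), ← map_commutator, ← _root_.commutator_def,
        Group.IsPerfect.commutator_eq_top,
        map_top_of_surjective _ (QuotientGroup.mk'_surjective N₂)]
    intro p hp
    have h1 : QuotientGroup.mk' N₂ ⟨p, hp⟩ ∈ (⊤ : Subgroup (P ⧸ N₂)) := mem_top _
    rw [htop, mem_bot] at h1
    exact (QuotientGroup.eq_one_iff (N := N₂) _).1 h1
  have hcopP : ¬ r ∣ Nat.card P := fun hd => by
    have h1 : Nat.card P ∣ Nat.card L * Nat.card D :=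
      (card_dvd_of_le (hPM.trans (inf_le_left.trans (sup_comm D L).le))).trans
        (CfsgLib.Core.card_sup_dvd L D h.LD)
    exact (h.prime.dvd_mul.1 (hd.trans h1)).elim h.copL h.copD
  have hsetS : Setup S' P R r :=
    { prime := h.prime, card := h.card, LD := hPM.trans inf_le_right, RD := hSR, RL := hRP, perf := hPperf
      move := hPQ, copD := fun hd => h.copD (hd.trans (card_dvd_of_le hS'D)), copL := hcopP
      fix := hfix0 ▸ bot_le }
  have hPS := commutator_eq_bot_iff_le_centralizer.1 (IH S' P R hS'lt hsetS)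
  have hPC : P ≤ centralizer (D : Set X) := le_centralizer_iff.1 (commutator_eq_bot_iff_le_centralizer.1
    (centralizes_of_fixes_sylow hPD hPperf hO S (le_centralizer_iff.1 hPS)))
  -- `L` acts as inner automorphisms
  set C := centralizer (D : Set X) with hC
  have hLC : L ≤ normalizer (C : Set X) := h.LD.trans le_normalizer_centralizer
  have hRC : R ≤ normalizer (C : Set X) := h.RD.trans le_normalizer_centralizer
  set D₁ := D ⊓ (L ⊔ C) with hD₁
  have hD₁L : L ≤ normalizer (D₁ : Set X) := le_normalizer_inf h.LD (le_sup_left.trans le_normalizer)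
  have hD₁R : R ≤ normalizer (D₁ : Set X) :=
    le_normalizer_inf h.RD (le_normalizer_sup h.RL hRC)
  have hLD₁ : ∀ l ∈ L, ∃ d ∈ D₁, ∃ c ∈ C, l = d * c := by
    intro l hl
    obtain ⟨d, hd, c, hc, rfl⟩ := (CfsgLib.Core.mem_sup_iff_mul' hPD).1 (hLP hl)
    exact ⟨d, ⟨hd, by
      rw [show d = d * c * c⁻¹ by group]
      exact mul_mem (mem_sup_left hl) (mem_sup_right (inv_mem (hPC hc)))⟩, c, hPC hc, rfl⟩
  have hD₁C : ∀ d ∈ D₁, ∃ l ∈ L, ∃ c ∈ C, d = l * c := fun d hd =>
    (CfsgLib.Core.mem_sup_iff_mul hLC).1 hd.2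
  have hCc : ∀ {c x : X}, c ∈ C → x ∈ D → x * c = c * x := fun hc hx => mem_centralizer_iff.1 hc _ hx
  rcases eq_or_ne D₁ D with e | hne
  · refine hfixne (eq_bot_iff.2 fun x hx => ?_)
    have hz : (⟨x, hx.1⟩ : D) ∈ center D := mem_center_iff.2 fun y => Subtype.ext (by
      obtain ⟨l, hl, c, hc, hy⟩ := hD₁C y (e.symm ▸ y.2)
      show (y : X) * x = x * y
      rw [hy, mul_assoc, ← hCc hc hx.1, ← mul_assoc, mem_centralizer_iff.1 (h.fix hx) l hl, mul_assoc])
    rw [hcenter, mem_bot] at hz
    exact congrArg Subtype.val hz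
  · have hJ₁ := hsub D₁ inf_le_left hne hD₁L hD₁R
    have hab : ∀ x ∈ D₁, ∀ y ∈ D₁, x * y = y * x := by
      intro x hx y hy
      obtain ⟨l, hl, c, hc, rfl⟩ := hD₁C y hy
      rw [← mul_assoc, ← mem_centralizer_iff.1 (hJ₁ hx).2 l hl, mul_assoc, hCc hc hx.1, mul_assoc]
    have hLC' : L ≤ C := by
      rw [← h.perf, commutator_le]
      intro a ha b hb
      obtain ⟨d, hd, c, hc, rfl⟩ := hLD₁ a ha
      obtain ⟨e, he, c', hc', rfl⟩ := hLD₁ b hb
      have h3 : d * c * (e * c') = (d * e) * (c * c') := by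
        rw [mul_assoc d c, ← mul_assoc c e, ← hCc hc he.1, mul_assoc e, ← mul_assoc d]
      have h4 : e * c' * (d * c) = (d * e) * (c' * c) := by
        rw [mul_assoc e c', ← mul_assoc c' d, ← hCc hc' hd.1, mul_assoc d, ← mul_assoc e, hab e he d hd]
      rw [show ⁅d * c, e * c'⁆ = (d * c * (e * c')) * (e * c' * (d * c))⁻¹ by
        rw [commutatorElement_def]; group, h3, h4]
      rw [show d * e * (c * c') * (d * e * (c' * c))⁻¹ = d * e * ((c * c') * (c' * c)⁻¹) * (d * e)⁻¹ by group,
        hCc (mul_mem (mul_mem hc hc') (inv_mem (mul_mem hc' hc))) (mul_mem hd.1 he.1), mul_inv_cancel_right]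
      exact mul_mem (mul_mem hc hc') (inv_mem (mul_mem hc' hc))
    exact hgoal (le_centralizer_iff.1 hLC')

/-- The centralising lemma. -/
theorem commutator_eq_bot (hS : Shult.{u}) : ∀ (n : ℕ) (X : Type u) [Group X] [Finite X]
    (D L R : Subgroup X) (r : ℕ), Setup D L R r → Nat.card D = n → ⁅D, L⁆ = ⊥ := by
  intro n
  induction n using Nat.strong_induction_on with
  | _ n ih =>
    intro X _ _ D L R r h hn
    subst hn
    by_cases hN : ∃ N : Subgroup X, N ≤ D ∧ D ≤ normalizer (N : Set X) ∧ L ≤ normalizer (N : Set X) ∧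
        R ≤ normalizer (N : Set X) ∧ N ≠ ⊥ ∧ N ≠ D
    · obtain ⟨N, hND, hDN, hLN, hRN, hb, ht⟩ := hN
      have h2 := ih _ (card_lt_of_le_of_ne hND ht) X N L R r (h.mono hND hLN hRN) rfl
      refine three_step h.perf ?_ h2
      have hq := h.quotient hND hDN hLN hRN
      set M := normalizer (N : Set X)
      set π := QuotientGroup.mk' (N.subgroupOf M)
      have hlt : Nat.card ((D.subgroupOf M).map π) < Nat.card D := by
        have h1 : Nat.card N * Nat.card ((D.subgroupOf M).map π) = Nat.card D := by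
          have h4 : Nat.card ((D.subgroupOf M).map π) = N.relIndex D := by
            have := Subgroup.relIndex_ker (K := D.subgroupOf M) π
            rw [QuotientGroup.ker_mk', relIndex_subgroupOf hDN] at this
            rw [this]
          rw [h4, ← relIndex_bot_left N, ← relIndex_bot_left D]
          exact relIndex_mul_relIndex _ _ _ bot_le hND
        have hN1 : 1 < Nat.card N := (Subgroup.one_lt_card_iff_ne_bot _).2 hb
        rw [← h1]
        exact lt_mul_of_one_lt_left Nat.card_pos hN1
      have h3 := ih _ hlt (↥M ⧸ N.subgroupOf M) _ _ _ r hq rfl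
      rw [← map_commutator, Subgroup.map_eq_bot_iff, QuotientGroup.ker_mk'] at h3
      rw [commutator_le]
      intro d hd l hl
      exact h3 (commutator_mem_commutator (g₁ := (⟨d, hDN hd⟩ : M)) (g₂ := (⟨l, hLN hl⟩ : M)) hd hl)
    · push Not at hN
      exact simple_step hS h (fun D' L' R' hlt h' => ih _ hlt X D' L' R' r h' rfl)
        fun N h1 h2 h3 h4 => (eq_or_ne N ⊥).imp_right fun hb => hN N h1 h2 h3 h4 hb

end CfsgLib.ShultDep
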