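import Cfsg.Agent.Lib.FixedSpace.ShultDep.Layer
import Cfsg.Agent.Lib.Components.Diagonal

/-!
Owner: helper8. From the fixed-point theorem of Shult type (the statement of S1929): a quasisimple subgroup of
`G` commuting with its other conjugates under `R C_G(R)` is a component of `C_G(R)`, a component of `G`, or lies in
a component of `G` normalised by `R`.

`quasisimple_le` is the argument used throughout: a quasisimple `A` lies in every subgroup it normalises containing
the commutators with an element that moves it.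
-/

set_option autoImplicit false
set_option linter.style.haveILetI false
set_option linter.unusedSectionVars false

namespace CfsgLib.ShultDep

open Subgroup
open CfsgLib.Components (IsPermuted components_eq_or_commute component_le_normalizer_component)
open scoped commutatorElement Pointwise

universe u

variable {X : Type u} [Group X]

theorem mem_conj_smul {A : Subgroup X} {g x : X} : x ∈ MulAut.conj g • A ↔ g⁻¹ * x * g ∈ A := by
  rw [Subgroup.mem_pointwise_smul_iff_inv_smul_mem]
  show (MulAut.conj g)⁻¹ x ∈ A ↔ _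
  rw [← map_inv, MulAut.conj_apply, inv_inv]

theorem conj_smul_le {A B : Subgroup X} (h : A ≤ B) (g : X) : MulAut.conj g • A ≤ MulAut.conj g • B :=
  fun _ hx => mem_conj_smul.2 (h (mem_conj_smul.1 hx))

theorem conj_smul_iSup {ι : Sort*} (A : ι → Subgroup X) (g : X) :
    MulAut.conj g • (⨆ i, A i) = ⨆ i, MulAut.conj g • A i := by
  simp only [CfsgLib.Components.conj_smul_eq_map, Subgroup.map_iSup]

theorem conj_smul_commutator (A B : Subgroup X) (g : X) :
    MulAut.conj g • ⁅A, B⁆ = ⁅MulAut.conj g • A, MulAut.conj g • B⁆ := by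
  simp only [CfsgLib.Components.conj_smul_eq_map, Subgroup.map_commutator]

theorem mem_centralizer_zpowers {x y : X} : y ∈ centralizer (zpowers x : Set X) ↔ Commute x y := by
  refine ⟨fun h => mem_centralizer_iff.1 h x (mem_zpowers x), fun h => mem_centralizer_iff.2 ?_⟩
  rintro _ ⟨i, rfl⟩
  exact (h.zpow_left i).eq

theorem commutator_central_mul {z a w b : X} (za : Commute z a) (zb : Commute z b) (wa : Commute w a)
    (wb : Commute w b) (zw : Commute z w) : ⁅z * a, w * b⁆ = ⁅a, b⁆ := by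
  rw [za.eq, commutatorElement_mul_left_eq_conj_mul,
    commutatorElement_eq_one_iff_mul_comm.2 (zw.mul_right zb).eq, mul_one, mul_inv_cancel, one_mul,
    commutatorElement_mul_right_eq_mul_conj, commutatorElement_eq_one_iff_mul_comm.2 wa.eq.symm, one_mul]
  refine mul_inv_eq_of_eq_mul ?_
  rw [commutatorElement_def]
  exact (((wa.mul_right wb).mul_right wa.inv_right).mul_right wb.inv_right).eq

theorem quasisimple_perfect {A : Subgroup X} (hA : Cfsg.IsQuasisimple A) : ⁅A, A⁆ = A :=
  CfsgLib.Components.IsQuasisimple.commutator_eq_self hA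

theorem not_le_centralizer_self {A : Subgroup X} (hA : Cfsg.IsQuasisimple A) :
    ¬ A ≤ centralizer (A : Set X) := fun h =>
  CfsgLib.Components.IsQuasisimple.commutator_self_ne_bot hA (commutator_eq_bot_iff_le_centralizer.2 h)

theorem quasisimple_conj {A : Subgroup X} (hA : Cfsg.IsQuasisimple A) (g : X) :
    Cfsg.IsQuasisimple (MulAut.conj g • A : Subgroup X) := by
  rw [CfsgLib.Components.conj_smul_eq_map]
  exact (CfsgLib.Components.isQuasisimple_map_iff (f := (MulAut.conj g).toMonoidHom) (MulAut.conj g).injective).2 hA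

/-- A quasisimple group lies in a subgroup that it normalises and that contains its commutators with an element
moving it. -/
theorem quasisimple_le {A : Subgroup X} (hA : Cfsg.IsQuasisimple A) {N : Subgroup X}
    (hN : A ≤ normalizer (N : Set X)) {c : X}
    (hor : MulAut.conj c • A = A ∨ ⁅MulAut.conj c • A, A⁆ = ⊥)
    (hmem : ∀ a ∈ A, ⁅a, c⁆ ∈ N) (hc : c ∉ centralizer (A : Set X)) : A ≤ N := by
  by_contra hAN
  rcases hor with hfix | hcomm
  · have hcen : ∀ z ∈ A, z ∈ N → ∀ a ∈ A, a * z = z * a := by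
      intro z hz hzN a ha
      haveI hn : (N.subgroupOf A).Normal := normal_subgroupOf_of_le_normalizer hN
      have := CfsgLib.Components.IsQuasisimple.le_center_of_ne_top hA hn
        (fun e => hAN (Subgroup.subgroupOf_eq_top.mp e)) (show (⟨z, hz⟩ : A) ∈ N.subgroupOf A from hzN)
      exact congrArg Subtype.val (mem_center_iff.1 this ⟨a, ha⟩)
    have hcA : ∀ a ∈ A, c * a * c⁻¹ ∈ A := fun a ha => by
      rw [← hfix, mem_conj_smul]
      simpa [mul_assoc] using ha
    -- conjugation by `c` changes every element by a central one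
    have hz : ∀ a ∈ A, ⁅a, c⁆ ∈ A := fun a ha => by
      rw [show ⁅a, c⁆ = a * (c * a⁻¹ * c⁻¹) by rw [commutatorElement_def]; group]
      exact mul_mem ha (hcA _ (inv_mem ha))
    refine hc (mem_centralizer_iff.2 fun x hx => ?_)
    rw [SetLike.mem_coe, ← quasisimple_perfect hA] at hx
    have hker : ⁅A, A⁆ ≤ centralizer ({c} : Set X) := by
      rw [commutator_le]
      intro a ha b hb
      rw [mem_centralizer_singleton_iff]
      set z := ⁅a, c⁆ with hzdef
      set z' := ⁅b, c⁆ with hz'def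
      have hca : c * a * c⁻¹ = z⁻¹ * a := by rw [hzdef, commutatorElement_def]; group
      have hcb : c * b * c⁻¹ = z'⁻¹ * b := by rw [hz'def, commutatorElement_def]; group
      have h1 : ∀ y ∈ A, y * z⁻¹ = z⁻¹ * y := fun y hy =>
        hcen _ (inv_mem (hz a ha)) (inv_mem (hmem a ha)) y hy
      have h2 : ∀ y ∈ A, y * z'⁻¹ = z'⁻¹ * y := fun y hy =>
        hcen _ (inv_mem (hz b hb)) (inv_mem (hmem b hb)) y hy
      have e : ⁅z⁻¹ * a, z'⁻¹ * b⁆ = ⁅a, b⁆ := commutator_central_mul (h1 a ha).symm (h1 b hb).symm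
        (h2 a ha).symm (h2 b hb).symm (h1 _ (inv_mem (hz b hb))).symm
      have h3 : c * ⁅a, b⁆ * c⁻¹ = ⁅a, b⁆ := by
        rw [show c * ⁅a, b⁆ * c⁻¹ = ⁅c * a * c⁻¹, c * b * c⁻¹⁆ by simp only [commutatorElement_def]; group,
          hca, hcb, e]
      exact (mul_inv_eq_iff_eq_mul.1 h3).symm
    exact mem_centralizer_singleton_iff.1 (hker hx)
  · refine hAN ?_
    rw [← quasisimple_perfect hA, commutator_le]
    intro a ha b hb
    have h3 := hmem a ha
    have h4 : ⁅⁅a, c⁆, b⁆ ∈ N := by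
      rw [show ⁅⁅a, c⁆, b⁆ = ⁅a, c⁆ * (b * ⁅a, c⁆⁻¹ * b⁻¹) by simp only [commutatorElement_def]; group]
      exact mul_mem h3 ((mem_normalizer_iff.1 (hN hb) _).1 (inv_mem h3))
    have hcb : c * a⁻¹ * c⁻¹ * b = b * (c * a⁻¹ * c⁻¹) :=
      (mem_centralizer_iff.1 (commutator_eq_bot_iff_le_centralizer.1 hcomm
        (mem_conj_smul.2 (by simpa [mul_assoc] using inv_mem ha) : c * a⁻¹ * c⁻¹ ∈ MulAut.conj c • A)) b hb).symm
    rwa [show ⁅⁅a, c⁆, b⁆ = ⁅a, b⁆ by
      rw [show ⁅a, c⁆ = a * (c * a⁻¹ * c⁻¹) by rw [commutatorElement_def]; group,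
        commutatorElement_mul_left_eq_conj_mul, commutatorElement_eq_one_iff_mul_comm.2 hcb]
      simp] at h4

/-- The core of S1929, for a normal subgroup `G`. -/
theorem component_trichotomy [Finite X] (hS : Shult.{u}) (G R : Subgroup X) [hGn : G.Normal] {r : ℕ}
    (hr : r.Prime) (hR : Nat.card R = r) (hcop : ¬ r ∣ Nat.card G) (K : Subgroup X) (hKG : K ≤ G)
    (hKq : Cfsg.IsQuasisimple K)
    (hcomm : ∀ g ∈ R ⊔ (G ⊓ centralizer (R : Set X)), MulAut.conj g • K ≠ K → ⁅K, MulAut.conj g • K⁆ = ⊥) :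
    (K ≤ G ⊓ centralizer (R : Set X) ∧ Cfsg.IsComponent (K.subgroupOf (G ⊓ centralizer (R : Set X)))) ∨
      Cfsg.IsComponent K ∨
      ∃ L : Subgroup X, L ≤ G ∧ Cfsg.IsComponent L ∧ (∀ a ∈ R, MulAut.conj a • L = L) ∧ K ≤ L := by
  classical
  haveI := Fact.mk hr
  set C := G ⊓ centralizer (R : Set X) with hC
  set RC := R ⊔ C with hRC
  let cK : RC → Subgroup X := fun g => MulAut.conj (g : X) • K
  set H := ⨆ g, cK g with hH
  have hcKG : ∀ g, cK g ≤ G := fun g x hx => by
    have h1 := hGn.conj_mem _ (hKG (mem_conj_smul.1 hx)) (g : X)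
    simpa [mul_assoc] using h1
  have hHG : H ≤ G := iSup_le hcKG
  have hcKH : ∀ g, cK g ≤ H := le_iSup cK
  have hKH : K ≤ H := le_of_eq_of_le (by simp [cK]) (hcKH 1)
  -- the conjugates commute
  have hpair : ∀ g k, cK g = cK k ∨ ⁅cK g, cK k⁆ = ⊥ := by
    intro g k
    by_cases he : cK g = cK k
    · exact Or.inl he
    refine Or.inr ?_
    have h1 : MulAut.conj ((g⁻¹ * k : RC) : X) • K ≠ K := fun e => he (by
      have := congrArg (fun A : Subgroup X => MulAut.conj (g : X) • A) e
      simp only [Subgroup.coe_mul, Subgroup.coe_inv, map_mul, mul_smul, map_inv, smul_inv_smul] at this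
      exact this.symm)
    have h2 := congrArg (fun A : Subgroup X => MulAut.conj (g : X) • A) (hcomm _ (g⁻¹ * k).2 h1)
    simp only [conj_smul_commutator, Subgroup.smul_bot, Subgroup.coe_mul, Subgroup.coe_inv, map_mul, mul_smul,
      map_inv, smul_inv_smul] at h2
    exact h2
  have hpair' : ∀ g k, cK g ≤ normalizer (cK k : Set X) := fun g k => by
    rcases hpair g k with e | e
    · rw [e]; exact le_normalizer
    · exact (commutator_eq_bot_iff_le_centralizer.1 e).trans (centralizer_le_normalizer _)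
  have hKn : H ≤ normalizer (K : Set X) := iSup_le fun g => by simpa [cK] using hpair' g 1
  have hmove : ∀ c ∈ RC, ∀ g, ∃ g', MulAut.conj c • cK g = cK g' := fun c hc g =>
    ⟨⟨c, hc⟩ * g, by simp [cK, map_mul, mul_smul]⟩
  have hor : ∀ c ∈ RC, ∀ g, MulAut.conj c • cK g = cK g ∨ ⁅MulAut.conj c • cK g, cK g⁆ = ⊥ := fun c hc g => by
    obtain ⟨g', hg'⟩ := hmove c hc g
    rw [hg']
    exact hpair g' g
  have hHinv : RC ≤ normalizer (H : Set X) := by
    intro c hc
    apply CfsgLib.Components.mem_normalizer_of_smul_eq_self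
    refine Subgroup.eq_of_le_of_card_ge ?_ (le_of_eq ?_)
    · rw [hH, conj_smul_iSup]
      refine iSup_le fun g => ?_
      obtain ⟨g', hg'⟩ := hmove c hc g
      rw [hg']
      exact hcKH g'
    · exact Nat.card_congr (Subgroup.equivSMul (MulAut.conj c) H).toEquiv
  have hHn : C ≤ normalizer (H : Set X) := le_sup_right.trans hHinv
  have hKcomp : Cfsg.IsComponent (K.subgroupOf H) :=
    ⟨Subgroup.Normal.isSubnormal (normal_subgroupOf_of_le_normalizer hKn),
      (CfsgLib.Components.isQuasisimple_congr (subgroupOfEquivOfLe hKH)).2 hKq⟩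
  by_cases hRK : K ≤ centralizer (R : Set X)
  · -- `K` is a component of `C`
    have hKC : K ≤ C := le_inf hKG hRK
    have hgC : ∀ g : RC, cK g ≤ C := fun g x hx => by
      have hgR : (g : X) ∈ normalizer (R : Set X) :=
        sup_le le_normalizer (inf_le_right.trans (centralizer_le_normalizer _)) g.2
      refine ⟨hcKG g hx, mem_centralizer_iff.2 fun a ha => ?_⟩
      have h1 := mem_centralizer_iff.1 (hRK (mem_conj_smul.1 hx)) _ ((mem_normalizer_iff''.1 hgR a).1 ha)
      have h2 := congrArg (fun y => (g : X) * y * (g : X)⁻¹) h1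
      simpa [mul_assoc] using h2
    have hHC : H ≤ C := iSup_le hgC
    refine Or.inl ⟨hKC, ⟨?_, (CfsgLib.Components.isQuasisimple_congr (subgroupOfEquivOfLe hKC)).2 hKq⟩⟩
    have h1 : ((K.subgroupOf C).subgroupOf (H.subgroupOf C)).Normal :=
      normal_subgroupOf_of_le_normalizer fun y hy => by
        rw [mem_normalizer_iff]
        intro z
        exact mem_normalizer_iff.1 (hKn hy) (z : X)
    have h2 : (H.subgroupOf C).IsSubnormal :=
      Subgroup.Normal.isSubnormal (normal_subgroupOf_of_le_normalizer hHn)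
    have h3 := (CfsgLib.Components.isSubnormal_map_subtype_iff h2).2 (Subgroup.Normal.isSubnormal h1)
    rwa [map_subgroupOf_eq_of_le (show K.subgroupOf C ≤ H.subgroupOf C from comap_mono hKH)] at h3
  refine Or.inr ?_
  -- `H = [H, R]`, so `K` lies in the layer
  obtain ⟨x, hxR, hxK⟩ : ∃ x ∈ R, x ∉ centralizer (K : Set X) := SetLike.not_le_iff_exists.1 fun h =>
    hRK (le_centralizer_iff.1 h)
  have hx1 : x ≠ 1 := fun e => hxK (e ▸ one_mem _)
  have hxr : orderOf x = r := orderOf_eq_prime (by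
    rw [← hR]; exact congrArg Subtype.val (pow_card_eq_one' (x := (⟨x, hxR⟩ : R)))) hx1
  have hRx : R = zpowers x := (Subgroup.eq_of_le_of_card_ge (zpowers_le.2 hxR)
    (by rw [Nat.card_zpowers, hxr, hR])).symm
  have hRn : ∀ {g : X}, g ∈ RC → g ∈ normalizer (R : Set X) := fun hg =>
    sup_le le_normalizer (inf_le_right.trans (centralizer_le_normalizer _)) hg
  have hxcK : ∀ g, x ∉ centralizer (cK g : Set X) := by
    intro g hx
    refine hRK (le_centralizer_iff.1 ?_)
    rw [← le_centralizer_iff]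
    intro k hk
    rw [hRx, mem_centralizer_zpowers]
    have hR' : (g : X) * x * (g : X)⁻¹ ∈ R := (mem_normalizer_iff.1 (hRn g.2) x).1 hxR
    have hcen : ∀ a ∈ R, Commute a ((g : X) * k * (g : X)⁻¹) := fun a ha => by
      rw [hRx] at ha
      obtain ⟨i, rfl⟩ := ha
      exact (show Commute x _ from (mem_centralizer_iff.1 hx _
        (mem_conj_smul.2 (by simpa [mul_assoc] using hk))).symm).zpow_left i
    exact (Commute.conj_iff (g : X)).1 (hcen _ hR')
  have hHR : ⁅H, R⁆ = H := by
    refine le_antisymm (le_normalizer_iff_commutator_le_left.1 (le_sup_left.trans hHinv)) (iSup_le fun g => ?_)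
    exact quasisimple_le (quasisimple_conj hKq _)
      ((hcKH g).trans (Subgroup.normalizer_commutator_ge_left H R)) (hor x (mem_sup_left hxR) g)
      (fun a ha => commutator_mem_commutator (hcKH g ha) hxR) (hxcK g)
  set EG := (Cfsg.layer G).map G.subtype with hEG
  have hlayer := layer_map_le hS G R hr hR hcop le_normalizer_of_normal H hHG hHinv hHR
  have hHE : H ≤ EG := iSup_le fun g => by
    have hn : (cK g).subgroupOf H |>.Normal :=
      normal_subgroupOf_of_le_normalizer (iSup_le fun k => hpair' k g)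
    have hc : Cfsg.IsComponent ((cK g).subgroupOf H) := ⟨Subgroup.Normal.isSubnormal hn,
      (CfsgLib.Components.isQuasisimple_congr (subgroupOfEquivOfLe (hcKH g))).2 (quasisimple_conj hKq _)⟩
    rw [← map_subgroupOf_eq_of_le (hcKH g)]
    exact (map_mono (CfsgLib.Components.le_layer hc)).trans hlayer
  have hGsub : G.IsSubnormal := Subgroup.Normal.isSubnormal hGn
  have hEle : ∀ L : Subgroup X, Cfsg.IsComponent L → EG ≤ normalizer (L : Set X) := fun L hL =>
    (CfsgLib.Components.map_layer_subnormal_le hGsub).trans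
      (CfsgLib.Components.component_le_normalizer_layer_member hL)
  have hHL : ∀ L : Subgroup X, Cfsg.IsComponent L → H ≤ normalizer (L : Set X) := fun L hL => hHE.trans (hEle L hL)
  let orb : Subgroup X → Subgroup X := fun L => ⨆ a : R, MulAut.conj (a : X) • L
  have horbG : ∀ L : Subgroup X, L ≤ G → orb L ≤ G := fun L hL => iSup_le fun a y hy => by
    have h1 := hGn.conj_mem _ (hL (mem_conj_smul.1 hy)) (a : X)
    simpa [mul_assoc] using h1
  have horbn : ∀ L : Subgroup X, Cfsg.IsComponent L → H ≤ normalizer (orb L : Set X) := fun L hL h hh => by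
    apply CfsgLib.Components.mem_normalizer_of_smul_eq_self
    show MulAut.conj h • (⨆ a : R, MulAut.conj (a : X) • L) = ⨆ a : R, MulAut.conj (a : X) • L
    rw [conj_smul_iSup]
    refine iSup_congr fun a => ?_
    exact CfsgLib.Components.smul_eq_self_of_mem_normalizer
      (hHL _ (CfsgLib.Components.isComponent_conj hL (a : X)) hh)
  have horbR : ∀ L : Subgroup X, R ≤ normalizer (orb L : Set X) := fun L a ha => by
    apply CfsgLib.Components.mem_normalizer_of_smul_eq_self
    show MulAut.conj a • (⨆ b : R, MulAut.conj (b : X) • L) = ⨆ b : R, MulAut.conj (b : X) • L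
    rw [conj_smul_iSup]
    refine (Equiv.mulLeft (⟨a, ha⟩ : R)).iSup_congr fun b => ?_
    simp [map_mul, mul_smul]
  -- a conjugate, so `K` itself, lies in the product of an orbit of components
  obtain ⟨L, hL, hLG, hKL⟩ : ∃ L : Subgroup X, Cfsg.IsComponent L ∧ L ≤ G ∧ K ≤ orb L := by
    obtain ⟨L, hL, hLG, hne⟩ : ∃ L : Subgroup X, Cfsg.IsComponent L ∧ L ≤ G ∧ ¬ K ≤ centralizer (L : Set X) := by
      by_contra hno
      push Not at hno
      refine not_le_centralizer_self hKq (le_trans ?_ (centralizer_le (hKH.trans hHE)))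
      rw [le_centralizer_iff, hEG, map_le_iff_le_comap, CfsgLib.Components.layer_le_iff]
      intro M hM
      rw [← map_le_iff_le_comap, ← le_centralizer_iff]
      exact hno _ ((CfsgLib.Components.isComponent_map_subtype_iff hGsub).2 hM) (map_subtype_le _)
    have hperfH : ⁅H, H⁆ = H := le_antisymm (commutator_le_self H) (iSup_le fun g =>
      (quasisimple_perfect (quasisimple_conj hKq _)).symm.le.trans (commutator_mono (hcKH g) (hcKH g)))
    obtain ⟨c, hcD, hcH⟩ : ∃ c ∈ orb L ⊓ centralizer (R : Set X), c ∉ centralizer (H : Set X) := by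
      by_contra hno
      push Not at hno
      have h1 := commutator_eq_bot hS _ X (orb L) H R r
        { prime := hr, card := hR, LD := horbn L hL, RD := horbR L, RL := le_sup_left.trans hHinv
          perf := hperfH, move := hHR
          copD := fun hd => hcop (hd.trans (card_dvd_of_le (horbG L hLG)))
          copL := fun hd => hcop (hd.trans (card_dvd_of_le hHG))
          fix := fun c hc => hno c hc } rfl
      have h2 : L ≤ orb L := le_of_eq_of_le (by simp) (le_iSup (fun a : R => MulAut.conj (a : X) • L) 1)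
      exact hne (hKH.trans ((le_centralizer_iff.1 (commutator_eq_bot_iff_le_centralizer.1 h1)).trans
        (centralizer_le h2)))
    obtain ⟨g, hg⟩ : ∃ g, c ∉ centralizer (cK g : Set X) := by
      by_contra hno
      push Not at hno
      exact hcH (le_centralizer_iff.1 (iSup_le fun g => le_centralizer_iff.1 (zpowers_le.2 (hno g)))
        (mem_zpowers c))
    have hcRC : c ∈ RC := mem_sup_right ⟨horbG L hLG hcD.1, hcD.2⟩
    have hle : cK g ≤ orb L := quasisimple_le (quasisimple_conj hKq _) ((hcKH g).trans (horbn L hL)) (hor c hcRC g)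
      (fun a ha => by
        rw [show ⁅a, c⁆ = a * c * a⁻¹ * c⁻¹ from rfl]
        exact mul_mem ((mem_normalizer_iff.1 (horbn L hL (hcKH g ha)) c).1 hcD.1) (inv_mem hcD.1)) hg
    refine ⟨MulAut.conj ((g : X)⁻¹) • L, CfsgLib.Components.isComponent_conj hL _, fun y hy => ?_, ?_⟩
    · have h1 := hGn.conj_mem _ (hLG (mem_conj_smul.1 hy)) (g : X)⁻¹
      simpa [mul_assoc] using h1
    intro k hk
    have h1 : MulAut.conj (g : X)⁻¹ • cK g ≤ MulAut.conj (g : X)⁻¹ • orb L := conj_smul_le hle _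
    have h2 : k ∈ MulAut.conj (g : X)⁻¹ • orb L := h1 (by simpa [cK, map_inv] using hk)
    refine (?_ : MulAut.conj (g : X)⁻¹ • orb L ≤ orb (MulAut.conj ((g : X)⁻¹) • L)) h2
    show MulAut.conj (g : X)⁻¹ • (⨆ a : R, MulAut.conj (a : X) • L) ≤ _
    rw [conj_smul_iSup]
    refine iSup_le fun a => ?_
    refine le_iSup_of_le ⟨(g : X)⁻¹ * a * g, (mem_normalizer_iff''.1 (hRn g.2) a).1 a.2⟩ ?_
    rw [← mul_smul, ← mul_smul, ← map_mul, ← map_mul]
    exact le_of_eq (congrArg (fun y => MulAut.conj y • L) (by group))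
  by_cases hxL : x ∈ normalizer (L : Set X)
  · have hfix : ∀ a ∈ R, MulAut.conj a • L = L := fun a ha =>
      CfsgLib.Components.smul_eq_self_of_mem_normalizer ((zpowers_le.2 hxL) (hRx ▸ ha))
    exact Or.inr ⟨L, hLG, hL, hfix, hKL.trans (iSup_le fun a => (hfix a a.2).le)⟩
  -- an orbit of length `r`
  have hP : IsPermuted r x L := ⟨hL, hxr ▸ pow_orderOf_eq_one x, hxL⟩
  set D := orb L with hD
  let Li : ℕ → Subgroup X := fun i => MulAut.conj (x ^ i) • L
  have hLi : ∀ i, Cfsg.IsComponent (Li i) := hP.isComponent_conj_pow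
  have hLiD : ∀ i, Li i ≤ D := fun i =>
    le_iSup (fun a : R => MulAut.conj (a : X) • L) ⟨x ^ i, pow_mem hxR i⟩
  have hLD : L ≤ D := le_of_eq_of_le (by simp [Li]) (hLiD 0)
  have hDgen : ∀ {S : Subgroup X}, (∀ i, Li i ≤ S) → D ≤ S := fun hS' => iSup_le fun a => by
    obtain ⟨i, hi⟩ := mem_powers_iff_mem_zpowers.2 (hRx ▸ a.2 : (a : X) ∈ zpowers x)
    rw [← hi]; exact hS' i
  let Z : ℕ → Subgroup X := fun i => D ⊓ centralizer (Li i : Set X)
  have hDn : ∀ i, D ≤ normalizer (Li i : Set X) := fun i =>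
    hDgen fun j => component_le_normalizer_component (hLi j) (hLi i)
  have hDZ : ∀ i, D ≤ normalizer (Z i : Set X) := fun i y hy =>
    Subgroup.inf_normalizer_le_normalizer_inf
      ⟨le_normalizer hy, le_normalizer_centralizer (hDn i hy)⟩
  have hL0 : Li 0 = L := by simp [Li]
  have hLsup : D ≤ L ⊔ Z 0 := hDgen fun i => by
    rcases components_eq_or_commute (hLi i) (hLi 0) with e | e
    · rw [e, hL0]; exact le_sup_left
    · exact le_sup_of_le_right (le_inf (hLiD i) (commutator_eq_bot_iff_le_centralizer.1 e))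
  have hprod : ∀ {S T : Subgroup X}, S ≤ normalizer (T : Set X) → ∀ y ∈ S ⊔ T, ∃ s ∈ S, ∃ t ∈ T, y = s * t :=
    fun hST y hy => by
      rw [← SetLike.mem_coe, coe_mul_of_left_le_normalizer_right _ _ hST] at hy
      obtain ⟨s, hs, t, ht, rfl⟩ := hy
      exact ⟨s, hs, t, ht, rfl⟩
  have hxD : ∀ i, x ^ i ∈ normalizer (D : Set X) := fun i => horbR L (pow_mem hxR i)
  -- the diagonal
  have hdiag : ∀ l (hl : l ∈ L), hP.diagHom ⟨l, hl⟩ ∈ D ∧ hP.diagHom ⟨l, hl⟩ ∈ C ∧
      (hP.diagHom ⟨l, hl⟩)⁻¹ * l ∈ Z 0 := fun l hl => by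
    have h1 : hP.diagHom ⟨l, hl⟩ ∈ D :=
      (hP.diag_le_iSup.trans (iSup_le hLiD)) ⟨_, rfl⟩
    refine ⟨h1, Subgroup.mem_inf.2 ⟨horbG L hLG h1, ?_⟩, Subgroup.mem_inf.2 ⟨mul_mem (inv_mem h1) (hLD hl), ?_⟩⟩
    · rw [hRx, mem_centralizer_zpowers]
      exact (hP.diagHom_commute _).symm
    · rw [hL0]
      refine mem_centralizer_iff.2 fun m hm => ?_
      have h2 := hP.diagHom_act ⟨l, hl⟩ hm
      calc m * ((hP.diagHom ⟨l, hl⟩)⁻¹ * l)
          = (hP.diagHom ⟨l, hl⟩)⁻¹ * (hP.diagHom ⟨l, hl⟩ * m * (hP.diagHom ⟨l, hl⟩)⁻¹) *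
              hP.diagHom ⟨l, hl⟩ * ((hP.diagHom ⟨l, hl⟩)⁻¹ * l) := by group
        _ = (hP.diagHom ⟨l, hl⟩)⁻¹ * l * m := by rw [h2]; group
  -- the conjugates in `D`
  let M : Subgroup X := ⨆ g : {g : RC // cK g ≤ D}, cK g
  have hMD : M ≤ D := iSup_le fun g => g.2
  have hMle : ∀ g, cK g ≤ D → cK g ≤ M := fun g hg => le_iSup (fun g : {g : RC // cK g ≤ D} => cK g) ⟨g, hg⟩
  have hcZ : ∀ g i, cK g ≤ D → cK g ≤ normalizer (Z i : Set X) := fun g i hg => hg.trans (hDZ i)
  -- some conjugate in `D` moves each factor, and only one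
  have hex : ∃ g, cK g ≤ D ∧ ¬ cK g ≤ centralizer (L : Set X) := by
    by_contra hno
    push Not at hno
    have hKD : K ≤ D := hKL
    refine not_le_centralizer_self hKq (le_trans ?_ (centralizer_le hKD))
    rw [le_centralizer_iff]
    refine hDgen fun i => le_centralizer_iff.1 fun k hk => ?_
    obtain ⟨g', hg'⟩ := hmove (x ^ i)⁻¹ (mem_sup_left (inv_mem (pow_mem hxR i))) 1
    have hg'D : cK g' ≤ D := by
      rw [← hg', show cK 1 = K by simp [cK]]
      intro y hy
      have h1 := hKD (mem_conj_smul.1 hy)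
      have hn : (x ^ i)⁻¹ ∈ normalizer (D : Set X) := inv_mem (hxD i)
      have h2 := (mem_normalizer_iff.1 hn _).1 h1
      simpa [mul_assoc] using h2
    refine mem_centralizer_iff.2 fun y hy => ?_
    have h1 := mem_centralizer_iff.1 (hno g' hg'D (show (x ^ i)⁻¹ * k * x ^ i ∈ cK g' by
      rw [← hg', mem_conj_smul]; simpa [cK, mul_assoc] using hk)) _ (mem_conj_smul.1 hy)
    have h2 := congrArg (fun y => x ^ i * y * (x ^ i)⁻¹) h1
    simpa [mul_assoc] using h2
  obtain ⟨g₀, hg₀D, hg₀⟩ := hex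
  set A := cK g₀ with hA
  have hLqs : Cfsg.IsQuasisimple L := hL.2
  have hnormL : ∀ {y}, y ∈ D → MulAut.conj y • L = L := fun hy =>
    CfsgLib.Components.smul_eq_self_of_mem_normalizer (hL0 ▸ hDn 0 hy)
  have hLnM : ∀ S : Subgroup X, S ≤ D → Z 0 ≤ normalizer (S : Set X) ∨ Z 0 ≤ S →
      (∀ l (hl : l ∈ L), hP.diagHom ⟨l, hl⟩ ∈ normalizer (S : Set X)) → L ≤ normalizer (S : Set X) :=
    fun S _ hZ hd l hl => by
      have h1 : l = hP.diagHom ⟨l, hl⟩ * ((hP.diagHom ⟨l, hl⟩)⁻¹ * l) := by group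
      rw [h1]
      refine mul_mem (hd l hl) ?_
      rcases hZ with hZ | hZ
      · exact hZ (hdiag l hl).2.2
      · exact le_normalizer (hZ (hdiag l hl).2.2)
  -- the diagonal permutes the conjugates in `D`
  have hdM : ∀ l (hl : l ∈ L) g, cK g ≤ D → ∃ g', MulAut.conj (hP.diagHom ⟨l, hl⟩) • cK g = cK g' ∧ cK g' ≤ D :=
    fun l hl g hg => by
      obtain ⟨g', hg'⟩ := hmove _ (mem_sup_right (hdiag l hl).2.1) g
      refine ⟨g', hg', hg' ▸ fun y hy => ?_⟩
      have h1 := mul_mem (mul_mem (hdiag l hl).1 (hg (mem_conj_smul.1 hy))) (inv_mem (hdiag l hl).1)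
      simpa [mul_assoc] using h1
  obtain ⟨a, haA, haL⟩ := SetLike.not_le_iff_exists.1 hg₀
  have hLn : L ≤ normalizer ((M ⊔ Z 0 : Subgroup X) : Set X) := by
    refine hLnM _ (sup_le hMD inf_le_left) (Or.inr le_sup_right) fun l hl => ?_
    apply CfsgLib.Components.mem_normalizer_of_smul_eq_self
    have hd := (hdiag l hl).1
    rw [Subgroup.smul_sup, CfsgLib.Components.smul_eq_self_of_mem_normalizer (hDZ 0 hd)]
    congr 1
    show MulAut.conj (hP.diagHom ⟨l, hl⟩) • (⨆ g : {g : RC // cK g ≤ D}, cK g) = _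
    refine Subgroup.eq_of_le_of_card_ge ?_ (le_of_eq ?_)
    · rw [conj_smul_iSup]
      refine iSup_le fun g => ?_
      obtain ⟨g', hg', hg'D⟩ := hdM l hl g g.2
      rw [hg']
      exact hMle g' hg'D
    · exact Nat.card_congr (Subgroup.equivSMul _ _).toEquiv
  have hLM : L ≤ M ⊔ Z 0 :=
    quasisimple_le hLqs hLn (c := a) (Or.inl (hnormL (hg₀D haA))) (fun l hl => by
      have hamem : a ∈ M ⊔ Z 0 := mem_sup_left (hMle g₀ hg₀D haA)
      rw [show ⁅l, a⁆ = l * a * l⁻¹ * a⁻¹ from rfl]
      exact mul_mem ((mem_normalizer_iff.1 (hLn hl) a).1 hamem) (inv_mem hamem)) haL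
  have hAZ : L ≤ A ⊔ Z 0 := by
    have hMn : M ⊔ Z 0 ≤ normalizer ((A ⊔ Z 0 : Subgroup X) : Set X) := by
      refine sup_le (iSup_le fun g y hy => ?_) (le_sup_right.trans le_normalizer)
      apply CfsgLib.Components.mem_normalizer_of_smul_eq_self
      rw [Subgroup.smul_sup, CfsgLib.Components.smul_eq_self_of_mem_normalizer (hDZ 0 (g.2 hy)),
        CfsgLib.Components.smul_eq_self_of_mem_normalizer (hpair' g g₀ hy)]
    refine quasisimple_le hLqs (hLM.trans hMn) (c := a) (Or.inl (hnormL (hg₀D haA))) (fun l hl => ?_) haL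
    have hamem : a ∈ A ⊔ Z 0 := mem_sup_left haA
    rw [show ⁅l, a⁆ = l * a * l⁻¹ * a⁻¹ from rfl]
    exact mul_mem ((mem_normalizer_iff.1 (hMn (hLM hl)) a).1 hamem) (inv_mem hamem)
  have huniq : ∀ g, cK g ≤ D → ¬ cK g ≤ centralizer (L : Set X) → cK g = A := by
    intro g hg hgL
    rcases hpair g g₀ with e | e
    · exact e
    exfalso
    obtain ⟨b, hb, hbL⟩ := SetLike.not_le_iff_exists.1 hgL
    refine not_le_centralizer_self hLqs ((quasisimple_le hLqs ((hLD).trans (hDZ 0)) (N := Z 0) (c := b)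
      (Or.inl (hnormL (hg hb))) (fun l hl => ?_) hbL).trans (hL0 ▸ inf_le_right))
    obtain ⟨a', ha', z, hz, rfl⟩ := hprod (hcZ g₀ 0 hg₀D) l (hAZ hl)
    have hab : ⁅a', b⁆ = 1 := commutatorElement_eq_one_iff_mul_comm.2
      (mem_centralizer_iff.1 (commutator_eq_bot_iff_le_centralizer.1 e hb) a' ha')
    rw [commutatorElement_mul_left_eq_conj_mul, hab, mul_one]
    refine (mem_normalizer_iff.1 (hcZ g₀ 0 hg₀D ha') _).1 ?_
    rw [show ⁅z, b⁆ = z * (b * z⁻¹ * b⁻¹) by rw [commutatorElement_def]; group]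
    exact mul_mem hz ((mem_normalizer_iff.1 (hcZ g 0 hg hb) _).1 (inv_mem hz))
  -- the member for `x ^ i • L`
  have hAi : ∀ i g, cK g ≤ D → ¬ cK g ≤ centralizer (Li i : Set X) → cK g = MulAut.conj (x ^ i) • A := by
    intro i g hg hgi
    obtain ⟨g', hg'⟩ := hmove (x ^ i)⁻¹ (mem_sup_left (inv_mem (pow_mem hxR i))) g
    have hg'D : cK g' ≤ D := hg' ▸ fun y hy => by
      have h1 := (mem_normalizer_iff.1 (inv_mem (hxD i)) _).1 (hg (mem_conj_smul.1 hy))
      simpa [mul_assoc] using h1
    have hg'L : ¬ cK g' ≤ centralizer (L : Set X) := fun hc => hgi fun k hk => mem_centralizer_iff.2 fun y hy => by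
      have h1 := mem_centralizer_iff.1 (hc (show (x ^ i)⁻¹ * k * x ^ i ∈ cK g' by
        rw [← hg', mem_conj_smul]; simpa [mul_assoc] using hk)) _ (mem_conj_smul.1 hy)
      have h2 := congrArg (fun y => x ^ i * y * (x ^ i)⁻¹) h1
      simpa [mul_assoc] using h2
    rw [← huniq g' hg'D hg'L, ← hg', map_inv, smul_inv_smul]
  have hKne : ∃ i, ¬ K ≤ centralizer (Li i : Set X) := by
    by_contra hno
    push Not at hno
    exact not_le_centralizer_self hKq (le_trans (le_centralizer_iff.1 (hDgen fun i => le_centralizer_iff.1 (hno i)))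
      (centralizer_le hKL))
  obtain ⟨i₀, hi₀⟩ := hKne
  have hK1 : cK 1 = K := by simp [cK]
  have hKA : K = MulAut.conj (x ^ i₀) • A := hK1 ▸ hAi i₀ 1 (hK1.symm ▸ hKL) (hK1.symm ▸ hi₀)
  by_cases hxA : x ∈ normalizer (A : Set X)
  · -- one diagonal member: centralised by `R`
    exfalso
    have hfixA : ∀ i, MulAut.conj (x ^ i) • A = A := fun i =>
      CfsgLib.Components.smul_eq_self_of_mem_normalizer (pow_mem hxA i)
    rw [hfixA] at hKA
    have hxAA : x ∉ centralizer (A : Set X) := hxcK g₀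
    set N := D ⊓ centralizer (D : Set X) with hN
    refine not_le_centralizer_self (A := A) (quasisimple_conj hKq _) (((quasisimple_le (A := A) (quasisimple_conj hKq _) (N := N) (c := x) ?_
      (hor x (mem_sup_left hxR) g₀) (fun k hk => ?_) hxAA).trans inf_le_right).trans (centralizer_le hg₀D))
    · refine hg₀D.trans fun y hy => Subgroup.inf_normalizer_le_normalizer_inf
        ⟨le_normalizer hy, le_normalizer_centralizer (le_normalizer hy)⟩
    obtain ⟨l, hl, z, hz, hklz⟩ := hprod (hLD.trans (hDZ 0)) k (hLsup (hg₀D hk))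
    set c := hP.diagHom ⟨l, hl⟩ with hc
    set w := k⁻¹ * c with hw
    obtain ⟨hcD, hcC, hcl⟩ := hdiag l hl
    have hwD : w ∈ D := mul_mem (inv_mem (hg₀D hk)) hcD
    have hwZ : w ∈ Z 0 := by
      rw [show w = z⁻¹ * ((c⁻¹ * l)⁻¹) by rw [hw, hklz]; group]
      exact mul_mem (inv_mem hz) (inv_mem hcl)
    have hcA : MulAut.conj c • A = A := by
      obtain ⟨g', hg', hg'D⟩ := hdM l hl g₀ hg₀D
      rw [← hc] at hg'
      rw [hg']
      refine huniq g' hg'D fun hle => hg₀ fun y hy => mem_centralizer_iff.2 fun m hm => ?_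
      have hm' : c * m * c⁻¹ ∈ L := (hnormL hcD).le (mem_conj_smul.2 (by simpa [← hc, mul_assoc] using hm))
      have h1 := mem_centralizer_iff.1 (hle (show c * y * c⁻¹ ∈ cK g' by
        rw [← hg', mem_conj_smul]; simpa [mul_assoc] using hy)) _ hm'
      have h2 := congrArg (fun y => c⁻¹ * y * c) h1
      simpa [mul_assoc] using h2
    have hwA : w ∈ centralizer (A : Set X) := by
      by_contra hwn
      refine hg₀ ((quasisimple_le (quasisimple_conj hKq _) (hcZ g₀ 0 hg₀D) (c := w) (Or.inl ?_) (fun y hy => ?_)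
        hwn).trans (hL0 ▸ inf_le_right))
      · rw [hw, map_mul, mul_smul, hcA, map_inv, inv_smul_eq_iff]
        exact (CfsgLib.Components.smul_eq_self_of_mem_normalizer (le_normalizer hk)).symm
      · rw [show ⁅y, w⁆ = y * w * y⁻¹ * w⁻¹ from rfl]
        exact mul_mem ((mem_normalizer_iff.1 (hcZ g₀ 0 hg₀D hy) w).1 hwZ) (inv_mem hwZ)
    have hwc : w ∈ N := by
      refine ⟨hwD, (le_centralizer_iff.1 (hDgen fun i => le_centralizer_iff.1 (zpowers_le.2 ?_))) (mem_zpowers w)⟩
      by_contra hwn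
      obtain ⟨g, hg⟩ : ∃ g : RC, MulAut.conj (x ^ i) • A = cK g := by
        rw [hfixA]; exact ⟨g₀, rfl⟩
      refine not_le_centralizer_self (hLi i).2 ((quasisimple_le (hLi i).2 ((hLiD i).trans (hDZ i)) (c := w)
        (Or.inl (CfsgLib.Components.smul_eq_self_of_mem_normalizer (hDn i hwD))) (fun y hy => ?_) hwn).trans
        inf_le_right)
      have hsup : Li i ≤ A ⊔ Z i := by
        intro y hy
        have h1 := conj_smul_le hAZ (x ^ i) hy
        rw [Subgroup.smul_sup, hfixA] at h1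
        refine sup_le_sup_left ?_ A h1
        intro v hv
        obtain ⟨hvD, hvc⟩ := mem_conj_smul.1 hv
        refine ⟨by simpa [mul_assoc] using (mem_normalizer_iff.1 (hxD i) _).1 hvD, mem_centralizer_iff.2 fun m hm => ?_⟩
        rw [hL0] at hvc
        have h2 := congrArg (fun y => x ^ i * y * (x ^ i)⁻¹) (mem_centralizer_iff.1 hvc _ (mem_conj_smul.1 hm))
        simpa [mul_assoc] using h2
      obtain ⟨a', ha', z', hz', rfl⟩ := hprod (hcZ g₀ i hg₀D) y (hsup hy)
      have hab : ⁅a', w⁆ = 1 := commutatorElement_eq_one_iff_mul_comm.2 (mem_centralizer_iff.1 hwA a' ha')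
      rw [commutatorElement_mul_left_eq_conj_mul, hab, mul_one]
      refine (mem_normalizer_iff.1 (hcZ g₀ i hg₀D ha') _).1 ?_
      rw [show ⁅z', w⁆ = z' * (w * z'⁻¹ * w⁻¹) by rw [commutatorElement_def]; group]
      exact mul_mem hz' ((mem_normalizer_iff.1 (hDZ i hwD) _).1 (inv_mem hz'))
    have hcx : x * c * x⁻¹ = c := by
      rw [← mem_centralizer_iff.1 hcC.2 x hxR |>.symm, mul_inv_cancel_right]
    rw [show ⁅k, x⁆ = c * w⁻¹ * (x * w * x⁻¹) * (x * c * x⁻¹)⁻¹ by rw [hw, commutatorElement_def]; group, hcx]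
    have hxN : x ∈ normalizer (N : Set X) := Subgroup.inf_normalizer_le_normalizer_inf
      ⟨(by simpa using hxD 1), le_normalizer_centralizer (by simpa using hxD 1)⟩
    have h1 : w⁻¹ * (x * w * x⁻¹) ∈ N := mul_mem (inv_mem hwc) ((mem_normalizer_iff.1 hxN w).1 hwc)
    have hcN : c ∈ normalizer (N : Set X) := Subgroup.inf_normalizer_le_normalizer_inf
      ⟨le_normalizer hcD, le_normalizer_centralizer (le_normalizer hcD)⟩
    simpa [mul_assoc] using (mem_normalizer_iff.1 hcN _).1 h1
  -- distinct members: each is a component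
  refine Or.inl ?_
  suffices hAL : A = L by
    rw [hKA, hAL]; exact hLi i₀
  have hAle : A ≤ L := by
    rw [← quasisimple_perfect (A := A) (quasisimple_conj hKq _), commutator_le]
    -- every element of `A` is in `L` modulo the centre
    have hsplit : ∀ y ∈ A, ∃ l ∈ L, ∃ v, (∀ d ∈ D, d * v = v * d) ∧ y = l * v := by
      intro y hy
      obtain ⟨l, hl, v, hv, rfl⟩ := hprod (hLD.trans (hDZ 0)) y (hLsup (hg₀D hy))
      refine ⟨l, hl, v, fun d hd => ?_, rfl⟩
      have hle : D ≤ centralizer ({v} : Set X) := hDgen fun i m hm => by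
        rw [mem_centralizer_singleton_iff]
        rcases components_eq_or_commute (hLi i) (hLi 0) with e | e
        · rw [e] at hm
          exact mem_centralizer_iff.1 hv.2 m hm
        · have hne : cK g₀ ≤ centralizer (Li i : Set X) := by
            by_contra hgi
            have h1 := hAi i g₀ hg₀D hgi
            have hi : ∃ j, j < r ∧ x ^ i = x ^ j := ⟨i % r, Nat.mod_lt _ hr.pos, by rw [← hxr, pow_mod_orderOf]⟩
            obtain ⟨j, hj, hij⟩ := hi
            rcases Nat.eq_zero_or_pos j with rfl | hj0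
            · have : Li i = Li 0 := by simp only [Li]; rw [hij]
              rw [this] at e
              exact CfsgLib.Components.IsQuasisimple.commutator_self_ne_bot (hLi 0).2 e
            · obtain ⟨n, hn⟩ := exists_pow_eq_self_of_coprime (x := x) (n := j) (by
                rw [hxr]; exact (hr.coprime_iff_not_dvd.2 fun hd => by
                  have := Nat.le_of_dvd hj0 hd; omega).symm)
              exact hxA (hn ▸ pow_mem (CfsgLib.Components.mem_normalizer_of_smul_eq_self (hij ▸ h1.symm)) n)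
          have h1 := mem_centralizer_iff.1 (hne hy) m hm
          have h2 : m * l = l * m := by
            rw [hL0] at e
            exact (mem_centralizer_iff.1 (commutator_eq_bot_iff_le_centralizer.1 e hm) l hl).symm
          refine mul_left_cancel (a := l) ?_
          calc l * (m * v) = m * (l * v) := by rw [← mul_assoc, ← h2, mul_assoc]
            _ = l * v * m := h1
            _ = l * (v * m) := mul_assoc _ _ _
      exact mem_centralizer_singleton_iff.1 (hle hd)
    intro y hy y' hy'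
    obtain ⟨l, hl, v, hv, rfl⟩ := hsplit y hy
    obtain ⟨l', hl', v', hv', rfl⟩ := hsplit y' hy'
    have hvD : v ∈ D := by simpa using mul_mem (inv_mem (hLD hl)) (hg₀D hy)
    have hv'D : v' ∈ D := by simpa using mul_mem (inv_mem (hLD hl')) (hg₀D hy')
    rw [hv l (hLD hl), hv' l' (hLD hl'), commutator_central_mul (hv _ (hLD hl)).symm (hv _ (hLD hl')).symm
      (hv' _ (hLD hl)).symm (hv' _ (hLD hl')).symm (hv' _ hvD), commutatorElement_def]
    exact mul_mem (mul_mem (mul_mem hl hl') (inv_mem hl)) (inv_mem hl')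
  refine le_antisymm hAle ?_
  intro l hl
  have hle : L ≤ A ⊔ L ⊓ centralizer (L : Set X) := fun l hl => by
    obtain ⟨a', ha', z, hz, rfl⟩ := hprod (hcZ g₀ 0 hg₀D) l (hAZ hl)
    refine mul_mem (mem_sup_left ha') (mem_sup_right ⟨?_, hL0 ▸ hz.2⟩)
    simpa using mul_mem (inv_mem (hAle ha')) hl
  have hperf : ⁅L, L⁆ ≤ A := by
    rw [commutator_le]
    intro y hy y' hy'
    have hn : A ≤ normalizer ((L ⊓ centralizer (L : Set X) : Subgroup X) : Set X) := fun w hw =>
      Subgroup.inf_normalizer_le_normalizer_inf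
        ⟨le_normalizer (hAle hw), le_normalizer_centralizer (le_normalizer (hAle hw))⟩
    obtain ⟨a₁, ha₁, z₁, hz₁, rfl⟩ := hprod hn y (hle hy)
    obtain ⟨a₂, ha₂, z₂, hz₂, rfl⟩ := hprod hn y' (hle hy')
    have hc : ∀ {z}, z ∈ centralizer (L : Set X) → ∀ {w}, w ∈ L → Commute z w := fun hz w hw =>
      (mem_centralizer_iff.1 hz w hw).symm
    rw [(hc hz₁.2 (hAle ha₁)).symm.eq, (hc hz₂.2 (hAle ha₂)).symm.eq, commutator_central_mul
      (hc hz₁.2 (hAle ha₁)) (hc hz₁.2 (hAle ha₂)) (hc hz₂.2 (hAle ha₁)) (hc hz₂.2 (hAle ha₂)) (hc hz₁.2 hz₂.1),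
      commutatorElement_def]
    exact mul_mem (mul_mem (mul_mem ha₁ ha₂) (inv_mem ha₁)) (inv_mem ha₂)
  exact hperf (quasisimple_perfect hLqs |>.symm.le hl)

end CfsgLib.ShultDep
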