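import Cfsg.Agent.Lib.FixedSpace.ShultDep.Component

/-!
Owner: helper8. The statement of S1929, given the statement of S3041: reduction to a normal subgroup by passing to
the normaliser of `G`.
-/

set_option autoImplicit false
set_option linter.style.haveILetI false
set_option linter.unusedSectionVars false

namespace CfsgLib.ShultDep

open Subgroup
open scoped commutatorElement Pointwise

universe u

variable {X : Type u} [Group X]

/-- A component of `A.subgroupOf M`, transported to `A`. -/
theorem isComponent_transport [Finite X] {K A M : Subgroup X} (hKA : K ≤ A) (hAM : A ≤ M)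
    (h : Cfsg.IsComponent ((K.subgroupOf M).subgroupOf (A.subgroupOf M))) :
    Cfsg.IsComponent (K.subgroupOf A) := by
  have h1 := CfsgLib.Components.isComponent_map_equiv (subgroupOfEquivOfLe hAM) h
  convert h1 using 1
  ext ⟨y, hy⟩
  rw [mem_map_equiv]
  exact Iff.rfl

/-- The statement of S1929, given the statement of S3041. -/
theorem component_cases [Finite X] (hS : Shult.{u}) (G R : Subgroup X) {r : ℕ} (hr : r.Prime)
    (hR : Nat.card R = r) (hcop : (Nat.card G).Coprime r) (hnorm : R ≤ normalizer (G : Set X)) (K : Subgroup X)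
    (hKG : K ≤ G) (hKq : Cfsg.IsQuasisimple K)
    (hcomm : ∀ g ∈ R ⊔ (G ⊓ centralizer (R : Set X)), K.map (MulAut.conj g).toMonoidHom ≠ K →
      ⁅K, K.map (MulAut.conj g).toMonoidHom⁆ = ⊥) :
    (K ≤ G ⊓ centralizer (R : Set X) ∧ Cfsg.IsComponent (K.subgroupOf (G ⊓ centralizer (R : Set X)))) ∨
      Cfsg.IsComponent (K.subgroupOf G) ∨
      ∃ L : Subgroup X, L ≤ G ∧ Cfsg.IsComponent (L.subgroupOf G) ∧
        (∀ a ∈ R, L.map (MulAut.conj a).toMonoidHom = L) ∧ K ≤ L := by
  set M := normalizer (G : Set X) with hM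
  have hGM : G ≤ M := le_normalizer
  have hKM : K ≤ M := hKG.trans hGM
  haveI : (G.subgroupOf M).Normal := Subgroup.normal_in_normalizer
  set C := G ⊓ centralizer (R : Set X) with hC
  have hCM : C ≤ M := inf_le_left.trans hGM
  have hCeq : C.subgroupOf M = G.subgroupOf M ⊓ centralizer (R.subgroupOf M : Set M) := by
    ext y
    refine ⟨fun hy => Subgroup.mem_inf.2 ⟨hy.1, mem_centralizer_iff.2 fun a ha =>
      Subtype.ext (mem_centralizer_iff.1 hy.2 _ ha)⟩, fun hy => Subgroup.mem_inf.2 ⟨hy.1,
      mem_centralizer_iff.2 fun a ha => ?_⟩⟩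
    exact congrArg Subtype.val (mem_centralizer_iff.1 hy.2 ⟨a, hnorm ha⟩ ha)
  have hKq' : Cfsg.IsQuasisimple (K.subgroupOf M) :=
    (CfsgLib.Components.isQuasisimple_congr (subgroupOfEquivOfLe hKM)).2 hKq
  have hsmul : ∀ (g : M) (A : Subgroup X), A ≤ M →
      (MulAut.conj g • A.subgroupOf M).map M.subtype = A.map (MulAut.conj (g : X)).toMonoidHom := by
    intro g A hA
    rw [CfsgLib.Components.conj_smul_eq_map, map_map]
    conv_rhs => rw [← map_subgroupOf_eq_of_le hA, map_map]
    rfl
  have hcomm' : ∀ g ∈ R.subgroupOf M ⊔ (G.subgroupOf M ⊓ centralizer (R.subgroupOf M : Set M)),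
      MulAut.conj g • K.subgroupOf M ≠ K.subgroupOf M →
        ⁅K.subgroupOf M, MulAut.conj g • K.subgroupOf M⁆ = ⊥ := by
    intro g hg hne
    have hg' : (g : X) ∈ R ⊔ C := by
      have h1 := mem_map_of_mem M.subtype hg
      rwa [← hCeq, Subgroup.map_sup, map_subgroupOf_eq_of_le hnorm, map_subgroupOf_eq_of_le hCM] at h1
    apply map_injective M.subtype_injective
    rw [map_commutator, map_subgroupOf_eq_of_le hKM, hsmul g K hKM, Subgroup.map_bot]
    refine hcomm _ hg' fun e => hne (map_injective M.subtype_injective ?_)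
    rw [hsmul g K hKM, e, map_subgroupOf_eq_of_le hKM]
  rcases component_trichotomy hS (G.subgroupOf M) (R.subgroupOf M) hr
      (by rw [Nat.card_congr (subgroupOfEquivOfLe hnorm).toEquiv, hR])
      (by rw [Nat.card_congr (subgroupOfEquivOfLe hGM).toEquiv]; exact hr.coprime_iff_not_dvd.1 hcop.symm)
      (K.subgroupOf M) (comap_mono hKG) hKq' hcomm' with ⟨h1, h2⟩ | h | ⟨L, hLG, hL, hfix, hKL⟩
  · rw [← hCeq] at h1 h2
    have hKC : K ≤ C := fun y hy => h1 (show (⟨y, hKM hy⟩ : M) ∈ K.subgroupOf M from hy)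
    exact Or.inl ⟨hKC, isComponent_transport hKC hCM h2⟩
  · exact Or.inr (Or.inl (isComponent_transport hKG hGM
      (CfsgLib.Components.isComponent_subgroupOf h (comap_mono hKG))))
  · refine Or.inr (Or.inr ⟨L.map M.subtype, ?_, ?_, fun a ha => ?_, ?_⟩)
    · exact (map_mono hLG).trans (map_subgroupOf_eq_of_le hGM).le
    · have hle : L.map M.subtype ≤ G := (map_mono hLG).trans (map_subgroupOf_eq_of_le hGM).le
      refine isComponent_transport hle hGM ?_
      rw [show (L.map M.subtype).subgroupOf M = L from comap_map_eq_self_of_injective M.subtype_injective L]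
      exact CfsgLib.Components.isComponent_subgroupOf hL hLG
    · have h1 := hfix ⟨a, hnorm ha⟩ (show (⟨a, hnorm ha⟩ : M) ∈ R.subgroupOf M from ha)
      conv_rhs => rw [← h1]
      rw [CfsgLib.Components.conj_smul_eq_map, map_map, map_map]
      rfl
    · rw [← map_subgroupOf_eq_of_le hKM]
      exact map_mono hKL

end CfsgLib.ShultDep
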