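import Cfsg.Agent.Lib.FixedSpace.ShultDep.CentralLemma
import Cfsg.Agent.Lib.Components.CoprimeFStar
import Cfsg.Agent.Lib.Components.FStar
import Cfsg.Agent.Lib.Components.Radicals

/-!
Owner: helper14. From the fixed-point theorem of Shult type: if `R` of prime order acts coprimely on `G` and `H = [H,R]`
is normalised by `R` and `C_G(R)`, then `E(H) ≤ E(G)` (the statement of S1933).
-/

set_option autoImplicit false
set_option linter.all false

namespace CfsgLib.ShultDep

open Subgroup
open scoped commutatorElement Pointwise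

universe u

variable {X : Type u} [Group X]

/-- Transport of a subgroup of `H` along conjugation by an element normalising `H`. -/
theorem map_normalizer_map {H : Subgroup X} {g : X} (hg : g ∈ normalizer (H : Set X)) (K : Subgroup H) :
    ((K.map (H.normalizerMonoidHom ⟨g, hg⟩).toMonoidHom).map H.subtype) =
      (K.map H.subtype).map (MulAut.conj g).toMonoidHom := by
  rw [map_map, map_map]
  rfl

theorem map_conj_eq_self {A : Subgroup X} {g : X} (hg : g ∈ normalizer (A : Set X)) :
    A.map (MulAut.conj g).toMonoidHom = A := by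
  have := CfsgLib.Core.mem_normalizer_iff_conj_smul_eq.1 hg
  rwa [Subgroup.pointwise_smul_def] at this

theorem layer_map_le [Finite X] (hS : Shult.{u}) (G R : Subgroup X) {r : ℕ} (hr : r.Prime)
    (hR : Nat.card R = r) (hcop : ¬ r ∣ Nat.card G) (hnorm : R ≤ normalizer (G : Set X))
    (H : Subgroup X) (hHG : H ≤ G) (hHinv : R ⊔ (G ⊓ centralizer (R : Set X)) ≤ normalizer (H : Set X))
    (hHR : ⁅H, R⁆ = H) :
    (Cfsg.layer H).map H.subtype ≤ (Cfsg.layer G).map G.subtype := by
  classical
  set EG := (Cfsg.layer G).map G.subtype with hEG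
  set FG := (Cfsg.fittingSubgroup G).map G.subtype with hFG
  haveI := CfsgLib.Components.layer_characteristic (G := G)
  have hEGn : ∀ {A : Subgroup X}, A ≤ normalizer (G : Set X) → A ≤ normalizer (EG : Set X) :=
    fun hA => le_normalizer_map_characteristic hA _
  have hFGn : ∀ {A : Subgroup X}, A ≤ normalizer (G : Set X) → A ≤ normalizer (FG : Set X) :=
    fun hA => le_normalizer_map_characteristic hA _
  have hGG : ∀ {A : Subgroup X}, A ≤ G → A ≤ normalizer (G : Set X) := fun hA => hA.trans le_normalizer
  let bad : Subgroup H → Prop := fun K => Cfsg.IsComponent K ∧ ¬ K.map H.subtype ≤ EG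
  suffices h : ∀ K, ¬ bad K by
    rw [Cfsg.layer, map_le_iff_le_comap, sSup_le_iff]
    intro K hK
    rw [← map_le_iff_le_comap]
    by_contra hne
    exact h K ⟨hK, hne⟩
  have hperfK : ∀ {K : Subgroup H}, Cfsg.IsComponent K →
      ⁅K.map H.subtype, K.map H.subtype⁆ = K.map H.subtype := fun hK => by
    rw [← map_commutator, CfsgLib.Components.IsComponent.commutator_eq_self hK]
  -- moving a bad component keeps it bad
  have hbad_conj : ∀ {g : X} (hg : g ∈ normalizer (H : Set X)), g ∈ normalizer (G : Set X) → ∀ K, bad K →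
      bad (K.map (H.normalizerMonoidHom ⟨g, hg⟩).toMonoidHom) := by
    intro g hg hgG K hK
    refine ⟨CfsgLib.Components.isComponent_map_equiv _ hK.1, fun hle => hK.2 ?_⟩
    rw [map_normalizer_map] at hle
    have hgE : g ∈ normalizer (EG : Set X) :=
      hEGn (A := normalizer (G : Set X)) le_rfl hgG
    rw [← map_conj_eq_self hgE] at hle
    exact (map_le_map_iff_of_injective (MulEquiv.injective _)).1 hle
  intro K₀ hK₀
  let moved : Subgroup H → Prop := fun K => bad K ∧ ⁅K.map H.subtype, R⁆ ≠ ⊥
  -- some bad component is moved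
  have hex : ∃ K, moved K := by
    by_contra hno
    push Not at hno
    set B := ⨆ K : {K : Subgroup H // bad K}, (K : Subgroup H).map H.subtype with hB
    have hBH : H ≤ normalizer (B : Set X) := by
      refine le_normalizer_of_forall_mem fun h hh x hx => ?_
      have hmap : B.map (MulAut.conj h).toMonoidHom ≤ B := by
        rw [hB, Subgroup.map_iSup]
        refine iSup_le fun K => ?_
        rw [← map_normalizer_map (le_normalizer hh)]
        exact le_iSup (fun K : {K : Subgroup H // bad K} => (K : Subgroup H).map H.subtype)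
          ⟨_, hbad_conj (le_normalizer hh) (hGG hHG hh) K K.2⟩
      exact hmap ⟨x, hx, rfl⟩
    have hBR : ⁅B, R⁆ = ⊥ := by
      rw [commutator_eq_bot_iff_le_centralizer]
      exact iSup_le fun K => commutator_eq_bot_iff_le_centralizer.1 (not_not.1 fun hne => hno K ⟨K.2, hne⟩)
    have hBle : B ≤ H := iSup_le fun K => map_subtype_le _
    have h1 : ⁅⁅B, H⁆, R⁆ = ⊥ := le_bot_iff.1 (hBR ▸ commutator_mono
      ((commutator_comm B H).le.trans (by
        rw [commutator_comm]; exact le_normalizer_iff_commutator_le_left.1 hBH)) le_rfl)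
    have h2 : ⁅⁅R, B⁆, H⁆ = ⊥ := by rw [commutator_comm R B, hBR, commutator_bot_left]
    have h3 := commutator_commutator_eq_bot_of_rotate h2 h1
    rw [hHR] at h3
    have hK₀B : K₀.map H.subtype ≤ B :=
      le_iSup (fun K : {K : Subgroup H // bad K} => (K : Subgroup H).map H.subtype) ⟨K₀, hK₀⟩
    have h4 : K₀.map H.subtype = ⊥ :=
      le_bot_iff.1 ((hperfK hK₀.1).symm.le.trans (h3 ▸ commutator_mono (hK₀B.trans hBle) hK₀B))
    exact CfsgLib.Components.IsComponent.ne_bot hK₀.1
      ((Subgroup.map_eq_bot_iff_of_injective _ H.subtype_injective).1 h4)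
  set T := ⨆ K : {K : Subgroup H // moved K}, (K : Subgroup H).map H.subtype with hT
  have hTle : ∀ K, moved K → K.map H.subtype ≤ T := fun K hK =>
    le_iSup (fun K : {K : Subgroup H // moved K} => (K : Subgroup H).map H.subtype) ⟨K, hK⟩
  have hTH : T ≤ H := iSup_le fun K => map_subtype_le _
  have hTG : T ≤ G := hTH.trans hHG
  have hRH : R ≤ normalizer (H : Set X) := le_sup_left.trans hHinv
  have hRT : R ≤ normalizer (T : Set X) := by
    refine le_normalizer_of_forall_mem fun a ha x hx => ?_
    have hmap : T.map (MulAut.conj a).toMonoidHom ≤ T := by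
      rw [hT, Subgroup.map_iSup]
      refine iSup_le fun K => ?_
      rw [← map_normalizer_map (hRH ha)]
      refine hTle _ ⟨hbad_conj (hRH ha) (hnorm ha) K K.2.1, fun e => K.2.2 ?_⟩
      rw [map_normalizer_map, ← map_conj_eq_self (le_normalizer ha : a ∈ normalizer (R : Set X)),
        ← map_commutator, Subgroup.map_eq_bot_iff_of_injective _ (MulEquiv.injective _)] at e
      exact e
    exact hmap ⟨x, hx, rfl⟩
  have hTperf : ⁅T, T⁆ = T := by
    refine le_antisymm (commutator_le_self T) (iSup_le fun K => ?_)
    rw [← hperfK K.2.1.1]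
    exact commutator_mono (hTle K K.2) (hTle K K.2)
  have hTmove : ⁅T, R⁆ = T := by
    refine le_antisymm (le_normalizer_iff_commutator_le_left.1 hRT) (iSup_le fun K => ?_)
    set M := normalizer (H : Set X) with hM
    haveI : (H.subgroupOf M).Normal := Subgroup.normal_in_normalizer
    have hKM : (K : Subgroup H).map H.subtype ≤ M := (map_subtype_le _).trans le_normalizer
    have hcomp : Cfsg.IsComponent (((K : Subgroup H).map H.subtype).subgroupOf M) := by
      have := (CfsgLib.Components.isComponent_map_subtype_iff (H := H.subgroupOf M)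
        (Subgroup.Normal.isSubnormal inferInstance)).2
        (CfsgLib.Components.isComponent_map_equiv (subgroupOfEquivOfLe le_normalizer).symm K.2.1.1)
      convert this using 1
      apply map_injective M.subtype_injective
      rw [map_subgroupOf_eq_of_le hKM, map_map, map_map]
      rfl
    rcases CfsgLib.Components.component_le_commutator_or_commutes (U := R.subgroupOf M) hcomp
      (show ((K : Subgroup H).map H.subtype).subgroupOf M ≤ T.subgroupOf M from
        comap_mono (hTle K K.2)) with e | e
    · have h1 := map_mono (f := M.subtype) e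
      rwa [map_commutator, map_subgroupOf_eq_of_le hKM, map_subgroupOf_eq_of_le (hTH.trans le_normalizer),
        map_subgroupOf_eq_of_le hRH] at h1
    · have h1 := congrArg (Subgroup.map M.subtype) e
      rw [map_commutator, map_subgroupOf_eq_of_le hKM, map_subgroupOf_eq_of_le hRH, Subgroup.map_bot] at h1
      exact absurd h1 K.2.2
  -- `C_D(R)` centralises `T`
  have hfix : ∀ D : Subgroup X, D ≤ G → G ≤ normalizer (D : Set X) →
      (∀ K, moved K → ¬ K.map H.subtype ≤ D) → D ⊓ centralizer (R : Set X) ≤ centralizer (T : Set X) := by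
    intro D hDG hDn hK
    rw [le_centralizer_iff]
    refine iSup_le fun K => le_centralizer_iff.1 fun x hx => ?_
    have hxH : x ∈ normalizer (H : Set X) := hHinv (mem_sup_right ⟨hDG hx.1, hx.2⟩)
    set A := (K : Subgroup H).map H.subtype with hA
    have hAH : A ≤ H := map_subtype_le _
    have hAD : A ≤ normalizer (D : Set X) := hAH.trans (hHG.trans hDn)
    set K' := (K : Subgroup H).map (H.normalizerMonoidHom ⟨x, hxH⟩).toMonoidHom with hK'
    have hA' : K'.map H.subtype = A.map (MulAut.conj x).toMonoidHom := map_normalizer_map _ _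
    have hcomp' : Cfsg.IsComponent K' := CfsgLib.Components.isComponent_map_equiv _ K.2.1.1
    have hxA : x ∈ normalizer (A : Set X) := by
      by_cases he : K' = (K : Subgroup H)
      · rw [he] at hA'
        rw [CfsgLib.Core.mem_normalizer_iff_conj_smul_eq, Subgroup.pointwise_smul_def]
        exact hA'.symm
      exfalso
      have hcomm := CfsgLib.Components.components_commute hcomp' K.2.1.1 he
      have hcommX : ∀ v ∈ K'.map H.subtype, ∀ a ∈ A, v * a = a * v := by
        rintro _ ⟨v, hv, rfl⟩ _ ⟨a, ha, rfl⟩
        exact congrArg Subtype.val (mem_centralizer_iff.1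
          (commutator_eq_bot_iff_le_centralizer.1 hcomm hv) a ha).symm
      have hle : K'.map H.subtype ≤ D := by
        rw [← hperfK hcomp', commutator_le]
        intro u hu v hv
        rw [hA'] at hu
        obtain ⟨a, ha, rfl⟩ := hu
        have hav : ⁅a, v⁆ = 1 := commutatorElement_eq_one_iff_mul_comm.2 (hcommX v hv a ha).symm
        have hd : x * a * x⁻¹ * a⁻¹ ∈ D := by
          rw [show x * a * x⁻¹ * a⁻¹ = x * (a * x⁻¹ * a⁻¹) by group]
          exact mul_mem hx.1 ((mem_normalizer_iff.1 (hAD ha) _).1 (inv_mem hx.1))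
        show ⁅x * a * x⁻¹, v⁆ ∈ D
        rw [show x * a * x⁻¹ = x * a * x⁻¹ * a⁻¹ * a by group, commutatorElement_mul_left_eq_conj_mul, hav]
        simp only [mul_one, one_mul, mul_inv_cancel]
        rw [commutatorElement_def, mul_assoc _ v, mul_assoc (x * a * x⁻¹ * a⁻¹)]
        exact mul_mem hd ((mem_normalizer_iff.1 (hDn (hHG (map_subtype_le _ hv))) _).1 (inv_mem hd))
      refine hK K K.2 ?_
      rw [hA', ← map_conj_eq_self (le_normalizer hx.1 : x ∈ normalizer (D : Set X))] at hle
      exact (map_le_map_iff_of_injective (MulEquiv.injective _)).1 hle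
    have hcen : ∀ z ∈ A ⊓ D, ∀ a ∈ A, a * z = z * a := by
      set A₀ := (K : Subgroup H) with hA₀
      have hn : ((D.subgroupOf H).subgroupOf A₀).Normal := normal_subgroupOf_of_le_normalizer fun a ha => by
        rw [mem_normalizer_iff]
        intro y
        exact mem_normalizer_iff.1 (hAD (mem_map_of_mem _ ha)) (y : X)
      have hle := CfsgLib.Components.IsQuasisimple.le_center_of_ne_top K.2.1.1.2 hn fun e => hK K K.2
        (by
          rintro _ ⟨a, ha, rfl⟩
          exact (show (⟨a, ha⟩ : A₀) ∈ (D.subgroupOf H).subgroupOf A₀ from e ▸ mem_top _))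
      rintro _ ⟨⟨z, hz, rfl⟩, hzD⟩ _ ⟨a, ha, rfl⟩
      have hz' := mem_center_iff.1 (hle (show (⟨z, hz⟩ : A₀) ∈ (D.subgroupOf H).subgroupOf A₀ from hzD)) ⟨a, ha⟩
      exact congrArg (fun y : A₀ => ((y : H) : X)) hz'
    set Z := zpowers x with hZ
    have hAZ : ⁅A, Z⁆ ≤ A ⊓ D := by
      refine le_inf (le_normalizer_iff_commutator_le_left.1 (zpowers_le.2 hxA)) ?_
      exact (commutator_mono le_rfl (zpowers_le.2 hx.1)).trans
        ((commutator_comm A D).le.trans (le_normalizer_iff_commutator_le_left.1 hAD))
    have h1 : ⁅⁅A, Z⁆, A⁆ = ⊥ := by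
      rw [commutator_eq_bot_iff_le_centralizer]
      exact hAZ.trans fun z hz => mem_centralizer_iff.2 fun a ha => hcen z hz a ha
    have h2 : ⁅⁅Z, A⁆, A⁆ = ⊥ := by rwa [commutator_comm Z A]
    have h3 := commutator_commutator_eq_bot_of_rotate h1 h2
    rw [hperfK K.2.1.1, commutator_eq_bot_iff_le_centralizer] at h3
    exact mem_centralizer_iff.2 fun a ha => (mem_centralizer_iff.1 (h3 ha) x (mem_zpowers x)).symm
  have hcentral : ∀ D : Subgroup X, D ≤ G → G ≤ normalizer (D : Set X) → R ≤ normalizer (D : Set X) →
      (∀ K, moved K → ¬ K.map H.subtype ≤ D) → T ≤ centralizer (D : Set X) := by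
    intro D hDG hDn hDR hK
    refine le_centralizer_iff.1 (commutator_eq_bot_iff_le_centralizer.1 ?_)
    exact commutator_eq_bot hS _ X D T R r
      { prime := hr, card := hR, LD := hTG.trans hDn, RD := hDR, RL := hRT, perf := hTperf, move := hTmove
        copD := fun hd => hcop (hd.trans (card_dvd_of_le hDG))
        copL := fun hd => hcop (hd.trans (card_dvd_of_le hTG))
        fix := hfix D hDG hDn hK } rfl
  have hTE : T ≤ centralizer (EG : Set X) := hcentral EG (map_subtype_le _) (hEGn le_normalizer) (hEGn hnorm)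
    fun K hK => hK.1.2
  have hTF : T ≤ centralizer (FG : Set X) := hcentral FG (map_subtype_le _) (hFGn le_normalizer) (hFGn hnorm)
    fun K hK hle => by
      haveI : Group.IsNilpotent FG := by
        haveI := CfsgLib.Core.isNilpotent_fittingSubgroup G
        exact CfsgLib.Core.isNilpotent_map G.subtype _
      haveI : Group.IsSolvable (K.map H.subtype) :=
        Group.isSolvable_of_isSolvable_injective (f := inclusion hle) (inclusion_injective hle)
      exact CfsgLib.Components.IsComponent.ne_bot hK.1.1
        ((Subgroup.map_eq_bot_iff_of_injective _ H.subtype_injective).1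
          (eq_bot_of_perfect_solvable (hperfK hK.1.1)))
  have hTstar : T.subgroupOf G ≤ centralizer (Cfsg.generalizedFittingSubgroup G : Set G) := by
    rw [le_centralizer_iff, Cfsg.generalizedFittingSubgroup]
    refine sup_le (fun y hy => ?_) (fun y hy => ?_)
    · exact mem_centralizer_iff.2 fun t ht =>
        Subtype.ext (mem_centralizer_iff.1 (hTE ht) _ (mem_map_of_mem G.subtype hy)).symm
    · exact mem_centralizer_iff.2 fun t ht =>
        Subtype.ext (mem_centralizer_iff.1 (hTF ht) _ (mem_map_of_mem G.subtype hy)).symm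
  have hTin : T.subgroupOf G ≤ Cfsg.generalizedFittingSubgroup G :=
    hTstar.trans CfsgLib.Components.centralizer_gFitting_le
  have hTbot : T = ⊥ := by
    rw [← hTperf, commutator_eq_bot_iff_le_centralizer]
    intro s hs
    refine mem_centralizer_iff.2 fun t ht => ?_
    exact congrArg Subtype.val (mem_centralizer_iff.1
      (hTstar (show (⟨s, hTG hs⟩ : G) ∈ T.subgroupOf G from hs)) (⟨t, hTG ht⟩ : G) (hTin ht))
  obtain ⟨K, hK⟩ := hex
  have := hTle K hK
  rw [hTbot, le_bot_iff] at this
  exact CfsgLib.Components.IsComponent.ne_bot hK.1.1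
    ((Subgroup.map_eq_bot_iff_of_injective _ H.subtype_injective).1 this)

end CfsgLib.ShultDep
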